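import Groth.Agent.KFlatLib.Perfect.LocFree
import Groth.Agent.KFlatLib.Scheme.PullTensorCx
import Groth.Agent.KFlatLib.Scheme.Flatness
import Mathlib.Data.Int.Interval

/-!
# Tensor products of strictly perfect complexes
-/

set_option linter.style.haveILetI false

universe w u

open CategoryTheory CategoryTheory.Limits AlgebraicGeometry TopologicalSpace Opposite

namespace Groth.Agent.KFlatLib

variable {X Y : Scheme.{u}}

lemma isZero_freeMod_zero : IsZero (FlatMod.freeMod X 0) := by
  rw [IsZero.iff_id_eq_zero]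
  exact Sigma.hom_ext _ _ fun i => i.elim0

lemma isFinLocFree_of_isZero {M : X.Modules} (h : IsZero M) : FlatMod.IsFinLocFree M := fun _ =>
  ⟨⊤, 0, trivial, ⟨((Scheme.Modules.restrictFunctor (⊤ : X.Opens).ι).map_isZero h).iso
    isZero_freeMod_zero⟩⟩

lemma isFinLocFree_sigma_aux (n : ℕ) : ∀ {ι : Type w} (f : ι → X.Modules) [HasCoproduct f]
    [∀ a : ι, HasCoproduct fun i : {i // i ≠ a} => f i] (S : Finset ι), S.card = n →
    (∀ i ∉ S, IsZero (f i)) → (∀ i, FlatMod.IsFinLocFree (f i)) →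
    (∀ {κ : Type w} (g : κ → X.Modules), HasCoproduct g) → FlatMod.IsFinLocFree (∐ f) := by
  induction n with
  | zero =>
    intro ι f _ _ S hS hz _ _
    refine isFinLocFree_of_isZero ?_
    rw [IsZero.iff_id_eq_zero]
    exact Sigma.hom_ext _ _ fun i => (hz i (by simp [Finset.card_eq_zero.1 hS])).eq_of_src _ _
  | succ n ih =>
    intro ι f _ _ S hS hz hf hcop
    classical
    obtain ⟨a, ha⟩ := Finset.card_pos.1 (by omega : 0 < S.card)
    let g := fun i : {i // i ≠ a} => f i
    haveI : ∀ b : {i // i ≠ a}, HasCoproduct fun i : {i // i ≠ b} => g i := fun b => hcop _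
    have hg : FlatMod.IsFinLocFree (∐ g) := ih g ((S.erase a).subtype _) (by
        rw [Finset.card_subtype, Finset.filter_true_of_mem (fun i hi => (Finset.mem_erase.1 hi).1),
          Finset.card_erase_of_mem ha]
        omega)
      (fun i hi => hz i (fun h => hi (Finset.mem_subtype.2 (Finset.mem_erase.2 ⟨i.2, h⟩))))
      (fun i => hf i) hcop
    refine H23.PullPush.isFinLocFree_of_iso (?_ : f a ⊞ ∐ g ≅ ∐ f) (isFinLocFree_biprod (hf a) hg)
    exact
      { hom := biprod.desc (Sigma.ι f a) (Sigma.desc fun i => Sigma.ι f i.1)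
        inv := Sigma.desc fun i => if h : i = a then eqToHom (by rw [h]) ≫ biprod.inl
          else Sigma.ι g ⟨i, h⟩ ≫ biprod.inr
        hom_inv_id := by
          apply biprod.hom_ext'
          · simp
          · apply Sigma.hom_ext
            intro i
            simp [i.2]
        inv_hom_id := by
          apply Sigma.hom_ext
          intro i
          by_cases h : i = a
          · subst h; simp
          · simp [h] }

/-- A coproduct of finite locally free modules, almost all zero, is finite locally free. -/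
lemma isFinLocFree_sigma {ι : Type} (f : ι → X.Modules) (S : Finset ι) (hz : ∀ i ∉ S, IsZero (f i))
    (hf : ∀ i, FlatMod.IsFinLocFree (f i)) : FlatMod.IsFinLocFree (∐ f) :=
  isFinLocFree_sigma_aux S.card f S rfl hz hf inferInstance

/-- `O ⊗ M ≅ M`. -/
noncomputable def structureTensorIso (M : X.Modules) :
    (DCoh.tensorBi.obj (Coh.structureModule X)).obj M ≅ M :=
  ((tensorBiFlipIso X).app (Coh.structureModule X)).symm.app M ≪≫
    (tensorStructureIso X).app M

lemma isFinLocFree_freeMod (n : ℕ) : FlatMod.IsFinLocFree (FlatMod.freeMod X n) := fun _ =>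
  ⟨⊤, n, trivial, ⟨(Scheme.Modules.restrictFunctorIsoPullback _).app _ ≪≫ pullFreeIso _ n⟩⟩

lemma isFinLocFree_freeTensor (n m : ℕ) :
    FlatMod.IsFinLocFree ((DCoh.tensorBi.obj (FlatMod.freeMod X n)).obj (FlatMod.freeMod X m)) := by
  refine H23.PullPush.isFinLocFree_of_iso
    (PreservesCoproduct.iso (DCoh.tensorBi.flip.obj (FlatMod.freeMod X m))
      (fun _ : Fin n => Coh.structureModule X)).symm ?_
  exact isFinLocFree_sigma _ Finset.univ (fun i hi => absurd (Finset.mem_univ i) hi) fun _ =>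
    H23.PullPush.isFinLocFree_of_iso (structureTensorIso _).symm (isFinLocFree_freeMod m)

lemma isFinLocFree_of_restrict {M : X.Modules}
    (h : ∀ x : X, ∃ U : X.Opens, x ∈ U ∧ FlatMod.IsFinLocFree (M.restrict U.ι)) :
    FlatMod.IsFinLocFree M := fun x => by
  obtain ⟨U, hx, hU⟩ := h x
  obtain ⟨V, n, hy, ⟨e⟩⟩ := hU ⟨x, hx⟩
  refine ⟨U.ι ''ᵁ V, n, ⟨⟨x, hx⟩, hy, rfl⟩, ⟨?_⟩⟩
  exact (Scheme.Modules.restrictFunctorCongr (Scheme.Hom.isoImage_inv_ι U.ι V).symm).app M ≪≫
    (Scheme.Modules.restrictFunctorComp _ (V.ι ≫ U.ι)).app M ≪≫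
    (Scheme.Modules.restrictFunctor (U.ι.isoImage V).inv).mapIso
      ((Scheme.Modules.restrictFunctorComp V.ι U.ι).app M ≪≫ e) ≪≫
    (Scheme.Modules.restrictFunctorIsoPullback _).app _ ≪≫ pullFreeIso _ n

lemma isFinLocFree_tensor {M N : X.Modules} (hM : FlatMod.IsFinLocFree M)
    (hN : FlatMod.IsFinLocFree N) : FlatMod.IsFinLocFree ((DCoh.tensorBi.obj M).obj N) :=
  isFinLocFree_of_restrict fun x => by
    obtain ⟨U, n, hx, ⟨e⟩⟩ := hM x
    obtain ⟨V, m, hx', ⟨e'⟩⟩ := hN x
    let W := U ⊓ V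
    let eM := restrictFreeIso (W := W) inf_le_left e
    let eN := restrictFreeIso (W := W) inf_le_right e'
    let r := Scheme.Modules.restrictFunctorIsoPullback W.ι
    refine ⟨W, ⟨hx, hx'⟩, H23.PullPush.isFinLocFree_of_iso ?_ (isFinLocFree_freeTensor n m)⟩
    exact (DCoh.tensorBi.mapIso ((r.app M).symm ≪≫ eM).symm).app _ ≪≫
      (DCoh.tensorBi.obj _).mapIso ((r.app N).symm ≪≫ eN).symm ≪≫
      (((pullTensorBiIso W.ι).app M).app N).symm ≪≫ (r.app _).symm

/-- The tensor product of strictly perfect complexes is strictly perfect. -/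
lemma isStrictlyPerfect_tensorCx {E F : CochainComplex X.Modules ℤ}
    (hE : DCoh.IsStrictlyPerfect E) (hF : DCoh.IsStrictlyPerfect F) :
    DCoh.IsStrictlyPerfect ((DCoh.tensorCx.obj E).obj F) := by
  obtain ⟨⟨a, b, hab⟩, hf⟩ := hE
  obtain ⟨⟨c, d, hcd⟩, hg⟩ := hF
  have hz : ∀ p q : ℤ, (p < a ∨ b < p) ∨ (q < c ∨ d < q) →
      IsZero ((DCoh.tensorBi.obj (E.X p)).obj (F.X q)) := by
    rintro p q (h | h)
    · exact (DCoh.tensorBi.flip.obj (F.X q)).map_isZero (hab p h)
    · exact (DCoh.tensorBi.obj (E.X p)).map_isZero (hcd q h)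
  refine ⟨⟨a + c, b + d, fun n hn => ?_⟩, fun n => ?_⟩
  · rw [IsZero.iff_id_eq_zero]
    refine HomologicalComplex.mapBifunctor.hom_ext fun p q h => (hz p q ?_).eq_of_src _ _
    change p + q = n at h
    omega
  · refine isFinLocFree_sigma
      (ι := ↥((ComplexShape.π (ComplexShape.up ℤ) (ComplexShape.up ℤ) (ComplexShape.up ℤ)) ⁻¹' {n}))
      (fun i => (DCoh.tensorBi.obj (E.X i.1.1)).obj (F.X i.1.2))
      ((Finset.Icc a b).image fun p => ⟨(p, n - p), show p + (n - p) = n by omega⟩)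
      (fun i hi => hz _ _ ?_) fun i => isFinLocFree_tensor (hf _) (hg _)
    by_contra h
    refine hi (Finset.mem_image.2 ⟨i.1.1, Finset.mem_Icc.2 (by omega), ?_⟩)
    have := i.2
    change i.1.1 + i.1.2 = n at this
    exact Subtype.ext (Prod.ext rfl (show n - i.1.1 = i.1.2 by omega))

end Groth.Agent.KFlatLib
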