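import Groth.Agent.KFlatLib.Perfect.Criterion

/-!
# Perfect objects: corollaries of the criterion
-/

set_option linter.style.haveILetI false

universe u

open CategoryTheory CategoryTheory.Limits AlgebraicGeometry CategoryTheory.Pretriangulated

attribute [local instance] HasDerivedCategory.standard

namespace Groth.Agent.KFlatLib

variable {X : Scheme.{u}}

lemma LocSP.of_local {K : DCoh.D X}
    (h : ∀ x : X, ∃ (U : Scheme.{u}) (j : U ⟶ X) (_ : IsOpenImmersion j),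
      x ∈ Set.range j.base ∧ LocSP ((rho j).obj K)) : LocSP K := fun x => by
  obtain ⟨U, j, _, ⟨u', rfl⟩, hU⟩ := h x
  obtain ⟨V, i, _, ⟨v, rfl⟩, P, hP, ⟨e⟩⟩ := hU u'
  exact ⟨V, i ≫ j, inferInstance, ⟨v, rfl⟩, P, hP, ⟨e ≪≫ rhoComp i j _ rfl K⟩⟩

lemma vanishesOutside_mono {E : CochainComplex X.Modules ℤ} {a b a' b' : ℤ}
    (h : DCoh.VanishesOutside E a b) (ha : a' ≤ a) (hb : b ≤ b') :
    DCoh.VanishesOutside E a' b' := fun i hi => h i (by omega)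

lemma flatAmplitude_mono {E : DCoh.D X} {a b a' b' : ℤ} (h : DCoh.HasFlatAmplitudeIn a b E)
    (ha : a' ≤ a) (hb : b ≤ b') : DCoh.HasFlatAmplitudeIn a' b' E := by
  obtain ⟨P, hv, hflat, e⟩ := h
  exact ⟨P, vanishesOutside_mono hv ha hb, hflat, e⟩

lemma locHasFiniteTorDim_of_locSP {E : DCoh.D X} (h : DCoh.IsPerfect E) :
    DCoh.LocHasFiniteTorDim E := fun x => by
  obtain ⟨V, hx, hV⟩ := h x
  obtain ⟨P, hP, ⟨e⟩⟩ := hV (DerivedCategory.Q.objPreimage E) ⟨repIso E⟩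
  obtain ⟨a, b, hab⟩ := hP.1
  exact ⟨V, a, b, hx, fun F ⟨eF⟩ => ⟨P, hab, fun i => isFlat_of_isFinLocFree (hP.2 i),
    ⟨e.symm ≪≫ restrictQIso V.ι (repIso E ≪≫ eF.symm)⟩⟩⟩

lemma locSP_of_locPC_finTor {E : DCoh.D X} (hpc : ∀ m, LocPC m E)
    (htor : DCoh.LocHasFiniteTorDim E) : LocSP E :=
  LocSP.of_local fun x => by
    obtain ⟨V, a, b, hx, hV⟩ := htor x
    obtain ⟨P, hv, hflat, ⟨e⟩⟩ := hV (DerivedCategory.Q.objPreimage E) ⟨repIso E⟩
    exact ⟨_, V.ι, inferInstance, ⟨⟨x, hx⟩, rfl⟩, locSP_of_flat_pc (le_max_left a b)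
      (flatAmplitude_mono ⟨P, hv, hflat, ⟨e ≪≫ ((rhoQ V.ι).app _).symm ≪≫
        (rho V.ι).mapIso (repIso E)⟩⟩ le_rfl (le_max_right a b))
      ((hpc (a - 1)).restrict V.ι)⟩

/-- Perfectness passes to direct summands. -/
lemma locSP_summand (K L : DCoh.D X) [HasBinaryBiproduct K L] (h : LocSP (K ⊞ L)) :
    LocSP K ∧ LocSP L := by
  have key : ∀ {M : DCoh.D X} (s : M ⟶ K ⊞ L) (r : K ⊞ L ⟶ M), s ≫ r = 𝟙 M →
      (∀ m, LocPC m M) → LocSP M := fun {M} s r hsr hpc => LocSP.of_local fun x => by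
    obtain ⟨U, j, _, hx, P, hP, ⟨e⟩⟩ := h x
    obtain ⟨a, b, hab⟩ := hP.1
    have hamp : DCoh.HasFlatAmplitudeIn a (max a b) ((rho j).obj (K ⊞ L)) :=
      flatAmplitude_mono ⟨P, hab, fun i => isFlat_of_isFinLocFree (hP.2 i), ⟨e⟩⟩ le_rfl
        (le_max_right a b)
    have ht : DCoh.HasTorAmplitudeIn a (max a b) ((rho j).obj M) :=
      torAmplitude_of_retract ((rho j).map s) ((rho j).map r)
        (by rw [← Functor.map_comp, hsr]; exact CategoryTheory.Functor.map_id _ _) (torAmplitude_of_flatAmplitude hamp)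
    exact ⟨U, j, inferInstance, hx, locSP_of_flat_pc (le_max_left a b)
      (flatAmplitude_of_torAmplitude hasLTensorMod (le_max_left a b) ht)
      ((hpc (a - 1)).restrict j)⟩
  exact ⟨key biprod.inl biprod.fst biprod.inl_fst fun m => (locPC_summand m K L (h.locPC m)).1,
    key biprod.inr biprod.snd biprod.inr_snd fun m => (locPC_summand m K L (h.locPC m)).2⟩

/-- Finite locally free modules, finitely many, are simultaneously free near a point. -/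
lemma exists_free_nhd {P : CochainComplex X.Modules ℤ} {a b : ℤ}
    (hab : DCoh.VanishesOutside P a b) (hf : ∀ i, FlatMod.IsFinLocFree (P.X i)) (x : X) :
    ∃ W : X.Opens, x ∈ W ∧ ∀ i, ∃ n : ℕ,
      Nonempty ((P.X i).restrict W.ι ≅ FlatMod.freeMod (W : Scheme.{u}) n) := by
  choose U n hx he using fun i => hf i x
  refine ⟨(Finset.Icc a b).inf U, Finset.inf_induction (s := Finset.Icc a b) (f := U)
    (p := fun U => x ∈ U) trivial (fun _ h₁ _ h₂ => ⟨h₁, h₂⟩) fun i _ => hx i, fun i => ?_⟩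
  by_cases hi : i ∈ Finset.Icc a b
  · obtain ⟨e⟩ := he i
    exact ⟨n i, ⟨restrictFreeIso (Finset.inf_le hi) e ≪≫ Iso.refl _⟩⟩
  · rw [Finset.mem_Icc] at hi
    exact ⟨0, ⟨((Scheme.Modules.restrictFunctor _).map_isZero (hab i (by omega))).iso
      isZero_freeMod_zero⟩⟩

/-- Perfect objects are locally represented by bounded complexes of free modules. -/
lemma exists_free_rep {E : DCoh.D X} (h : DCoh.IsPerfect E) (x : X) :
    ∃ (U : Scheme.{u}) (j : U ⟶ X) (_ : IsOpenImmersion j), x ∈ Set.range j.base ∧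
      ∃ (P : CochainComplex U.Modules ℤ) (a b : ℤ), DCoh.VanishesOutside P a b ∧
        (∀ i : ℤ, ∃ n : ℕ, Nonempty (P.X i ≅ FlatMod.freeMod U n)) ∧
        Nonempty (DerivedCategory.Q.obj P ≅ (rho j).obj E) := by
  obtain ⟨U, j, _, ⟨u', rfl⟩, P, hP, ⟨e⟩⟩ := (isPerfect_iff E).1 h x
  obtain ⟨a, b, hab⟩ := hP.1
  obtain ⟨W, hW, hfree⟩ := exists_free_nhd hab hP.2 u'
  exact ⟨_, W.ι ≫ j, inferInstance, ⟨⟨u', hW⟩, rfl⟩, (rCx W.ι).obj P, a, b,
    fun i hi => (Scheme.Modules.restrictFunctor W.ι).map_isZero (hab i hi), hfree,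
    ⟨((rhoQ W.ι).app P).symm ≪≫ (rho W.ι).mapIso e ≪≫ rhoComp W.ι j _ rfl E⟩⟩

lemma free_rep_range {E : DCoh.D X} (h : DCoh.IsPerfect E) (x : X) :
    ∃ V : X.Opens, x ∈ V ∧
      ∀ F : CochainComplex X.Modules ℤ, Nonempty (DCoh.toD X F ≅ E) →
        ∃ (P : CochainComplex (V : Scheme.{u}).Modules ℤ) (a b : ℤ), DCoh.VanishesOutside P a b ∧
          (∀ i : ℤ, ∃ n : ℕ, Nonempty (P.X i ≅ FlatMod.freeMod (V : Scheme.{u}) n)) ∧
          Nonempty (DerivedCategory.Q.obj ((DCoh.restrictCx V).obj F) ≅ DerivedCategory.Q.obj P) := by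
  obtain ⟨U, j, _, hx, P, a, b, hab, hfree, ⟨e⟩⟩ := exists_free_rep h x
  refine ⟨j.opensRange, hx, fun F ⟨eF⟩ => ⟨(rCx (rangeHom j)).obj P, a, b,
    fun i hi => (Scheme.Modules.restrictFunctor (rangeHom j)).map_isZero (hab i hi), fun i => ?_,
    ⟨?_⟩⟩⟩
  · obtain ⟨n, ⟨ei⟩⟩ := hfree i
    exact ⟨n, ⟨(Scheme.Modules.restrictFunctor (rangeHom j)).mapIso ei ≪≫
      (Scheme.Modules.restrictFunctorIsoPullback (rangeHom j)).app _ ≪≫ pullFreeIso _ _⟩⟩
  · exact ((rhoQ j.opensRange.ι).app F).symm ≪≫ (rho _).mapIso eF ≪≫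
      (rhoComp (rangeHom j) j _ (rangeHom_fac j) E).symm ≪≫ (rho (rangeHom j)).mapIso e.symm ≪≫
      (rhoQ (rangeHom j)).app P

end Groth.Agent.KFlatLib
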