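import Groth.Agent.H23.PullPush
import Groth.Agent.QCoh.Tilde
import Groth.Agent.KFlatLib.Scheme.Amplitude
import Mathlib.Algebra.Category.ModuleCat.Products
import Mathlib.RingTheory.Flat.Stability

/-!
# Finite locally free modules and strictly perfect complexes
-/

set_option linter.style.haveILetI false

universe u

open CategoryTheory CategoryTheory.Limits AlgebraicGeometry TopologicalSpace Opposite
open scoped TensorProduct

namespace Groth.Agent.KFlatLib

variable {X Y : Scheme.{u}}

/-- The unit section. -/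
noncomputable def oneSec (U : X.Opens) : (DCoh.toP.obj (Coh.structureModule X)).obj (op U) :=
  show X.presheaf.obj (op U) from 1

lemma res_oneSec {U V : X.Opens} (i : V ⟶ U) :
    res (DCoh.toP.obj (Coh.structureModule X)) i (oneSec U) = oneSec V :=
  (X.presheaf.map i.op).hom.map_one

lemma germP_oneSec {x : X} (U : X.Opens) (hU : x ∈ U) :
    germP (DCoh.toP.obj (Coh.structureModule X)) U hU (oneSec U) =
      germP _ ⊤ trivial (oneSec ⊤) := by
  rw [← res_oneSec (homOfLE (le_top : U ≤ ⊤)), germP_res]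

lemma sm_oneSec {U : X.Opens} (a : X.presheaf.obj (op U)) :
    sm (P := DCoh.toP.obj (Coh.structureModule X)) a (oneSec U) =
      (show (DCoh.toP.obj (Coh.structureModule X)).obj (op U) from a) :=
  mul_one a

/-- The stalks of the structure sheaf. -/
noncomputable def stalkUnitEquiv (x : X) : X.presheaf.stalk x ≃ₗ[X.presheaf.stalk x]
    (stalkMod x (DCoh.toP.obj (Coh.structureModule X)) : Type u) :=
  LinearEquiv.ofBijective (LinearMap.toSpanSingleton _ _
      (germP (DCoh.toP.obj (Coh.structureModule X)) ⊤ trivial (oneSec ⊤))) <| by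
    refine ⟨(injective_iff_map_eq_zero _).2 fun r hr => ?_, fun m => ?_⟩
    · obtain ⟨U, hU, a, rfl⟩ := X.presheaf.exists_germ_eq (x := x) r
      rw [LinearMap.toSpanSingleton_apply, ← germP_oneSec U hU, ← germP_smul, sm_oneSec] at hr
      obtain ⟨W, hW, i, _, hi⟩ := TopCat.Presheaf.germ_eq (C := AddCommGrpCat.{u})
        (DCoh.toP.obj (Coh.structureModule X)).presheaf x hU hU _ 0 (hr.trans (map_zero _).symm)
      have hi' : X.presheaf.map i.op a = 0 := hi.trans (map_zero _)
      rw [← X.presheaf.germ_res_apply i x hW a, hi', map_zero]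
    · obtain ⟨U, hU, s, rfl⟩ := exists_germP m
      refine ⟨X.presheaf.germ U x hU s, ?_⟩
      rw [LinearMap.toSpanSingleton_apply, ← germP_oneSec U hU, ← germP_smul, sm_oneSec]

lemma isFlat_freeMod (n : ℕ) : FlatMod.IsFlat (FlatMod.freeMod X n) := fun x => by
  haveI : Module.Flat (X.presheaf.stalk x)
      ((DerSch.stalkFunctor X x).obj (Coh.structureModule X) : Type u) :=
    Module.Flat.of_linearEquiv
      ((stalkUnitEquiv x).trans ((stalkToPIso x).app _).toLinearEquiv.symm).symm
  exact (Module.Flat.equiv_iff (PreservesCoproduct.iso (DerSch.stalkFunctor X x)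
    (fun _ : Fin n => Coh.structureModule X) ≪≫ ModuleCat.coprodIsoDirectSum _).toLinearEquiv).2
      inferInstance

lemma flat_of_extendScalars {R S : Type u} [CommRing R] [CommRing S] [Algebra R S]
    (hbij : Function.Bijective (algebraMap R S)) (N : Type u) [AddCommGroup N] [Module R N]
    [Module.Flat S (S ⊗[R] N)] : Module.Flat R N := by
  let e : R ≃ₗ[R] S := LinearEquiv.ofBijective (Algebra.linearMap R S) hbij
  haveI : Module.Flat R S := Module.Flat.of_linearEquiv e.symm
  haveI : Module.Flat R (S ⊗[R] N) := Module.Flat.trans R S _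
  exact Module.Flat.of_linearEquiv
    ((TensorProduct.lid R N).symm.trans (TensorProduct.congr e (LinearEquiv.refl R N)))

/-- Finite locally free modules are flat. -/
lemma isFlat_of_isFinLocFree {M : X.Modules} (hM : FlatMod.IsFinLocFree M) : FlatMod.IsFlat M := by
  intro x
  obtain ⟨U, n, hx, ⟨e⟩⟩ := hM x
  let y : U.toScheme := ⟨x, hx⟩
  have h : FlatMod.IsFlat ((Scheme.Modules.pullback U.ι).obj M) :=
    IsFlat.of_iso (e.symm ≪≫ (Scheme.Modules.restrictFunctorIsoPullback U.ι).app M) (isFlat_freeMod n)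
  letI := (U.ι.stalkMap y).hom.toAlgebra
  haveI : Module.Flat (U.toScheme.presheaf.stalk y) (U.toScheme.presheaf.stalk y
      ⊗[X.presheaf.stalk (U.ι.base y)] ((DerSch.stalkFunctor X (U.ι.base y)).obj M : Type u)) :=
    (Module.Flat.equiv_iff ((stalkPullbackIso U.ι y).app M).toLinearEquiv).1 (h y)
  exact flat_of_extendScalars (R := X.presheaf.stalk (U.ι.base y))
    (S := U.toScheme.presheaf.stalk y) (ConcreteCategory.bijective_of_isIso (U.ι.stalkMap y))
    ((DerSch.stalkFunctor X (U.ι.base y)).obj M : Type u)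

/-- Pullback of a free module. -/
noncomputable def pullFreeIso (f : X ⟶ Y) (n : ℕ) :
    (Scheme.Modules.pullback f).obj (FlatMod.freeMod Y n) ≅ FlatMod.freeMod X n :=
  let φ := f.toRingCatSheafHom
  let e : (Scheme.Modules.pullback f).obj (Coh.structureModule Y) ⟶ Coh.structureModule X :=
    SheafOfModules.pullbackObjUnitToUnit φ
  haveI : IsIso e := inferInstanceAs (IsIso (SheafOfModules.pullbackObjUnitToUnit φ))
  PreservesCoproduct.iso (Scheme.Modules.pullback f) _ ≪≫ Sigma.mapIso fun _ => asIso e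

lemma isFinLocFree_pullback (f : X ⟶ Y) {M : Y.Modules} (hM : FlatMod.IsFinLocFree M) :
    FlatMod.IsFinLocFree ((Scheme.Modules.pullback f).obj M) := fun x => by
  obtain ⟨U, n, hx, ⟨e⟩⟩ := hM (f.base x)
  exact ⟨f ⁻¹ᵁ U, n, hx, ⟨((H23.PullPush.pullRestrictIso f U).app M).symm ≪≫
    (Scheme.Modules.pullback (f ∣_ U)).mapIso e ≪≫ pullFreeIso _ n⟩⟩

/-- Restriction to a smaller open keeps a module free. -/
noncomputable def restrictFreeIso {U W : X.Opens} (h : W ≤ U) {M : X.Modules} {n : ℕ}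
    (e : M.restrict U.ι ≅ FlatMod.freeMod U n) : M.restrict W.ι ≅ FlatMod.freeMod W n :=
  (Scheme.Modules.restrictFunctorCongr (X.homOfLE_ι h).symm).app M ≪≫
    (Scheme.Modules.restrictFunctorComp (X.homOfLE h) U.ι).app M ≪≫
    (Scheme.Modules.restrictFunctor (X.homOfLE h)).mapIso e ≪≫
    (Scheme.Modules.restrictFunctorIsoPullback (X.homOfLE h)).app _ ≪≫ pullFreeIso _ n

/-- A sum of free modules is free. -/
noncomputable def biprodFreeIso (n m : ℕ) :
    FlatMod.freeMod X n ⊞ FlatMod.freeMod X m ≅ FlatMod.freeMod X (n + m) where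
  hom := biprod.desc
    (Sigma.desc fun i => Sigma.ι (fun _ : Fin (n + m) => Coh.structureModule X) (Fin.castAdd m i))
    (Sigma.desc fun j => Sigma.ι (fun _ : Fin (n + m) => Coh.structureModule X) (Fin.natAdd n j))
  inv := Sigma.desc (Fin.addCases
    (fun i => Sigma.ι (fun _ : Fin n => Coh.structureModule X) i ≫ biprod.inl)
    (fun j => Sigma.ι (fun _ : Fin m => Coh.structureModule X) j ≫ biprod.inr))
  hom_inv_id := by
    apply biprod.hom_ext' <;> apply Sigma.hom_ext <;> intro i <;> simp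
  inv_hom_id := by
    apply Sigma.hom_ext
    intro i
    induction i using Fin.addCases <;> simp

lemma isFinLocFree_biprod {M N : X.Modules} (hM : FlatMod.IsFinLocFree M)
    (hN : FlatMod.IsFinLocFree N) : FlatMod.IsFinLocFree (M ⊞ N) := fun x => by
  obtain ⟨U, n, hx, ⟨e⟩⟩ := hM x
  obtain ⟨V, m, hx', ⟨e'⟩⟩ := hN x
  haveI := preservesBinaryBiproducts_of_preservesBinaryCoproducts
    (Scheme.Modules.restrictFunctor (U ⊓ V).ι)
  exact ⟨U ⊓ V, n + m, ⟨hx, hx'⟩, ⟨(Scheme.Modules.restrictFunctor (U ⊓ V).ι).mapBiprod M N ≪≫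
    biprod.mapIso (restrictFreeIso inf_le_left e) (restrictFreeIso inf_le_right e') ≪≫
    biprodFreeIso n m⟩⟩

lemma isStrictlyPerfect_pullback (f : X ⟶ Y) {E : CochainComplex Y.Modules ℤ}
    (h : DCoh.IsStrictlyPerfect E) : DCoh.IsStrictlyPerfect ((pullCx f).obj E) := by
  obtain ⟨⟨a, b, hab⟩, hf⟩ := h
  exact ⟨⟨a, b, fun i hi => (Scheme.Modules.pullback f).map_isZero (hab i hi)⟩,
    fun i => isFinLocFree_pullback f (hf i)⟩

lemma isStrictlyPerfect_cone {E F : CochainComplex X.Modules ℤ} (φ : E ⟶ F)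
    (hE : DCoh.IsStrictlyPerfect E) (hF : DCoh.IsStrictlyPerfect F) :
    DCoh.IsStrictlyPerfect (CochainComplex.mappingCone φ) := by
  obtain ⟨⟨a, b, hab⟩, hf⟩ := hE
  obtain ⟨⟨c, d, hcd⟩, hg⟩ := hF
  have e : ∀ i : ℤ, (CochainComplex.mappingCone φ).X i ≅ E.X (i + 1) ⊞ F.X i := fun i =>
    HomologicalComplex.homotopyCofiber.XIsoBiprod φ i (i + 1) rfl
  refine ⟨⟨min (a - 1) c, max (b - 1) d, fun i hi => IsZero.of_iso ?_ (e i)⟩,
    fun i => H23.PullPush.isFinLocFree_of_iso (e i).symm (isFinLocFree_biprod (hf _) (hg _))⟩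
  exact (biprod_isZero_iff _ _).2 ⟨hab _ (by omega), hcd _ (by omega)⟩

lemma isKFlat_of_isStrictlyPerfect {E : CochainComplex X.Modules ℤ}
    (h : DCoh.IsStrictlyPerfect E) : DCoh.IsKFlat E := by
  obtain ⟨⟨a, b, hab⟩, hf⟩ := h
  exact isKFlat_of_vanishesOutside hab fun i => isFlat_of_isFinLocFree (hf i)

end Groth.Agent.KFlatLib
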