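import Groth.Agent.KFlatLib.Perfect.DLocal
import Groth.Agent.KFlatLib.Perfect.LocFree
import Groth.Agent.QCoh.LocFree

/-!
# Finite type and finite presentation through maps from free modules
-/

set_option linter.style.haveILetI false
set_option backward.isDefEq.respectTransparency false
set_option backward.isDefEq.respectTransparency.types false

universe u

open CategoryTheory CategoryTheory.Limits AlgebraicGeometry TopologicalSpace

namespace Groth.Agent.KFlatLib

variable {X : Scheme.{u}} {M : X.Modules}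

lemma isFT_of_epi_free
    (h : ∀ x : X, ∃ (W : X.Opens) (n : ℕ)
      (p : FlatMod.freeMod (W : Scheme.{u}) n ⟶ M.restrict W.ι), x ∈ W ∧ Epi p) :
    CohB1.IsFT M := by
  choose W n p hx hp using h
  have hg : ∀ x, ∃ g : (SheafOfModules.over M (W x)).GeneratingSections, g.IsFiniteType := fun x => by
    let q : SheafOfModules.free.{u} (ULift.{u} (Fin (n x))) ⟶ M.restrict (W x).ι :=
      (QCoh.freeModIso _ (n x)).inv ≫ p x
    have hq : Epi q := @epi_comp _ _ _ _ _ (QCoh.freeModIso _ (n x)).inv inferInstance (p x) (hp x)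
    let g₁ : SheafOfModules.GeneratingSections (M.restrict (W x).ι) :=
      ⟨ULift.{u} (Fin (n x)), SheafOfModules.freeHomEquiv _ q,
        by rw [Equiv.symm_apply_apply]; exact hq⟩
    let g₂ := (g₁.map (Scheme.Modules.overEquiv (W x)).inverse
      (TopologicalSpace.Opens.sheafOfModulesEquivOverInverseUnit (W x) X.ringCatSheaf).symm).ofEpi
      (((Scheme.Modules.overEquiv (W x)).inverse.mapIso
          ((Scheme.Modules.overFunctorEquiv (W x)).app M).symm ≪≫
        ((Scheme.Modules.overEquiv (W x)).unitIso.app (SheafOfModules.over M (W x))).symm).hom)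
    exact ⟨g₂, ⟨inferInstanceAs (Finite (ULift.{u} (Fin (n x))))⟩⟩
  choose g hg using hg
  let q : SheafOfModules.LocalGeneratorsData.{u} (R := X.ringCatSheaf) M :=
    { I := X, X := W,
      coversTop := (Opens.coversTop_iff _ W).2
        (top_le_iff.1 fun x _ => Opens.mem_iSup.2 ⟨x, hx x⟩),
      generators := g }
  have hq : q.IsFiniteType := by
    constructor
    exact hg
  constructor
  exact ⟨q, hq⟩

lemma isFP_of_free
    (h : ∀ x : X, ∃ (W : X.Opens) (m n : ℕ)
      (d : FlatMod.freeMod (W : Scheme.{u}) m ⟶ FlatMod.freeMod (W : Scheme.{u}) n),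
        x ∈ W ∧ Nonempty (cokernel d ≅ M.restrict W.ι)) :
    CohB1.IsFP M := by
  choose W m n d hx e using h
  have hg : ∀ x, ∃ P : (SheafOfModules.over M (W x)).Presentation, P.IsFinite := fun x => by
    obtain ⟨e⟩ := e x
    let f : SheafOfModules.free.{u} (ULift.{u} (Fin (m x))) ⟶
        SheafOfModules.free.{u} (ULift.{u} (Fin (n x))) :=
      (QCoh.freeModIso _ (m x)).inv ≫ d x ≫ (QCoh.freeModIso _ (n x)).hom
    let g : SheafOfModules.free.{u} (ULift.{u} (Fin (n x))) ⟶ M.restrict (W x).ι :=
      (QCoh.freeModIso _ (n x)).inv ≫ cokernel.π (d x) ≫ e.hom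
    have w : f ≫ g = 0 := by
      change ((QCoh.freeModIso _ (m x)).inv ≫ d x ≫ (QCoh.freeModIso _ (n x)).hom) ≫
        (QCoh.freeModIso _ (n x)).inv ≫ cokernel.π (d x) ≫ e.hom = 0
      simp
    haveI : Epi g := @epi_comp _ _ _ _ _ (QCoh.freeModIso _ (n x)).inv inferInstance
      (cokernel.π (d x) ≫ e.hom) (epi_comp _ _)
    have hc : IsColimit (CokernelCofork.ofπ g w) :=
      CokernelCofork.IsColimit.ofπ g w
        (fun {Z} k hk => e.inv ≫ cokernel.desc (d x)
          (((QCoh.freeModIso _ (n x)).hom ≫ k : FlatMod.freeMod _ (n x) ⟶ Z)) (by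
            rw [← cancel_epi (QCoh.freeModIso _ (m x)).inv, comp_zero]
            exact hk))
        (fun {Z} k hk => by simp [g])
        (fun {Z} k hk φ hφ => by
          rw [← cancel_epi g, hφ]
          simp [g])
    refine ⟨QCoh.presentationOver (W x) (SheafOfModules.presentationOfIsCokernelFree f g w hc), ?_⟩
    exact { isFiniteType_generators := ⟨inferInstanceAs (Finite (ULift.{u} (Fin (n x))))⟩
            isFiniteType_relations := ⟨inferInstanceAs (Finite (ULift.{u} (Fin (m x))))⟩ }
  choose g hg using hg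
  let q : SheafOfModules.QuasicoherentData.{u} (R := X.ringCatSheaf) M :=
    { I := X, X := W,
      coversTop := (Opens.coversTop_iff _ W).2
        (top_le_iff.1 fun x _ => Opens.mem_iSup.2 ⟨x, hx x⟩),
      presentation := g }
  have hq : q.IsFinitePresentation := by
    constructor
    exact hg
  constructor
  exact ⟨q, hq⟩

/-- A finite free module and the standard one. -/
noncomputable def freeFintypeIso (Y : Scheme.{u}) (I : Type u) [Fintype I] :
    FlatMod.freeMod Y (Fintype.card I) ≅ (SheafOfModules.free.{u} I : Y.Modules) :=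
  Sigma.whiskerEquiv (f := fun _ : Fin (Fintype.card I) => Coh.structureModule Y)
    (g := fun _ : I => Coh.structureModule Y) (Fintype.equivFin I).symm fun _ => Iso.refl _

lemma exists_epi_free_of_isFT (h : CohB1.IsFT M) (x : X) :
    ∃ (W : X.Opens) (n : ℕ) (p : FlatMod.freeMod (W : Scheme.{u}) n ⟶ M.restrict W.ι),
      x ∈ W ∧ Epi p := by
  obtain ⟨σ, hσ⟩ := h.exists_localGeneratorsData
  obtain ⟨i, hxU⟩ : ∃ i, x ∈ σ.X i :=
    Opens.mem_iSup.1 (((Opens.coversTop_iff _ _).1 σ.coversTop).symm ▸ trivial)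
  have := hσ.isFiniteType i
  let U : X.Opens := σ.X i
  let g := ((σ.generators i).map (Scheme.Modules.overEquiv (σ.X i)).functor
    (TopologicalSpace.Opens.sheafOfModulesEquivOverUnit U X.ringCatSheaf).symm).ofEpi
      ((Scheme.Modules.overFunctorEquiv (σ.X i)).app M).hom
  haveI : Finite g.I := inferInstanceAs (Finite (σ.generators i).I)
  letI := Fintype.ofFinite g.I
  exact ⟨U, _, (freeFintypeIso _ g.I).hom ≫ g.π, hxU,
    @epi_comp _ _ _ _ _ _ inferInstance g.π g.epi⟩

lemma exists_free_cokernel_of_isFP (h : CohB1.IsFP M) (x : X) :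
    ∃ (W : X.Opens) (m n : ℕ)
      (d : FlatMod.freeMod (W : Scheme.{u}) m ⟶ FlatMod.freeMod (W : Scheme.{u}) n),
      x ∈ W ∧ Nonempty (cokernel d ≅ M.restrict W.ι) := by
  obtain ⟨σ, hσ⟩ := h.exists_quasicoherentData
  obtain ⟨i, hxU⟩ : ∃ i, x ∈ σ.X i :=
    Opens.mem_iSup.1 (((Opens.coversTop_iff _ _).1 σ.coversTop).symm ▸ trivial)
  have := hσ.isFinite_presentation i
  let U : X.Opens := σ.X i
  let P₀ := (σ.presentation i).map (Scheme.Modules.overEquiv (σ.X i)).functor
    (TopologicalSpace.Opens.sheafOfModulesEquivOverUnit U X.ringCatSheaf).symm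
  let P := SheafOfModules.Presentation.ofIsIso.{u, u, u}
    ((Scheme.Modules.overFunctorEquiv (σ.X i)).app M).hom P₀
  haveI : Finite P.generators.I := inferInstanceAs (Finite (σ.presentation i).generators.I)
  haveI : Finite P.relations.I := inferInstanceAs (Finite (σ.presentation i).relations.I)
  letI := Fintype.ofFinite P.generators.I
  letI := Fintype.ofFinite P.relations.I
  let f := (SheafOfModules.freeHomEquiv _).symm P.relations.s ≫ kernel.ι P.generators.π
  let e₁ := freeFintypeIso (U : Scheme.{u}) P.relations.I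
  let e₂ := freeFintypeIso (U : Scheme.{u}) P.generators.I
  exact ⟨U, _, _, e₁.hom ≫ f ≫ e₂.inv, hxU,
    ⟨cokernel.mapIso (e₁.hom ≫ f ≫ e₂.inv) f e₁ e₂ (by simp) ≪≫
      IsColimit.coconePointUniqueUpToIso (cokernelIsCokernel f) P.isColimit⟩⟩

end Groth.Agent.KFlatLib
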