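import Groth.Agent.KFlatLib.Perfect.Criterion
import Groth.Agent.KFlatLib.Perfect.FiniteType
import Groth.Agent.KFlatLib.Perfect.Corollaries
import Mathlib.RingTheory.Flat.Basic
import Mathlib.Algebra.Homology.Embedding.TruncLE
import Mathlib.Algebra.Homology.DerivedCategory.SingleTriangle

/-!
# The top cohomology of pseudo-coherent objects
-/

set_option linter.style.haveILetI false

universe u

open CategoryTheory CategoryTheory.Limits AlgebraicGeometry CategoryTheory.Pretriangulated

attribute [local instance] HasDerivedCategory.standard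

namespace Groth.Agent.KFlatLib

variable {X : Scheme.{u}}

lemma IsFlat.of_retract {M N : X.Modules} (i : M ⟶ N) (r : N ⟶ M) (h : i ≫ r = 𝟙 M)
    (hN : FlatMod.IsFlat N) : FlatMod.IsFlat M := fun x => by
  haveI : Module.Flat (X.presheaf.stalk x) ((DerSch.stalkFunctor X x).obj N : Type u) := hN x
  exact Module.Flat.of_retract ((DerSch.stalkFunctor X x).map i).hom
    ((DerSch.stalkFunctor X x).map r).hom
    (ModuleCat.hom_ext_iff.1 (((DerSch.stalkFunctor X x).map_comp i r).symm.trans
      ((congrArg _ h).trans ((DerSch.stalkFunctor X x).map_id M))))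

/-- The kernel of an epimorphism of finite locally free modules is finite locally free. -/
lemma isFinLocFree_kernel {A B : X.Modules} (p : A ⟶ B) [Epi p] (hA : FlatMod.IsFinLocFree A)
    (hB : FlatMod.IsFinLocFree B) : FlatMod.IsFinLocFree (kernel p) :=
  isFinLocFree_of_restrict fun x => by
    obtain ⟨W, s, hx, hs⟩ := exists_lift hB p (𝟙 B) x
    let R := Scheme.Modules.restrictFunctor W.ι
    rw [CategoryTheory.Functor.map_id] at hs
    let i : R.obj (kernel p) ≅ kernel (R.map p) := PreservesKernel.iso R p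
    let r : R.obj A ⟶ kernel (R.map p) := kernel.lift (R.map p) (𝟙 _ - R.map p ≫ s) (by
      rw [Preadditive.sub_comp, Category.assoc, hs, Category.id_comp]
      exact (congrArg (R.map p - ·) (Category.comp_id _)).trans (sub_self _))
    have hr : kernel.ι (R.map p) ≫ r = 𝟙 _ := by
      rw [← cancel_mono (kernel.ι (R.map p))]
      simp [r, kernel.condition_assoc]
    have hsr : s ≫ r = 0 := by
      rw [← cancel_mono (kernel.ι (R.map p))]
      have hs' : s ≫ R.map p ≫ s = s :=
        (Category.assoc _ _ _).symm.trans ((congrArg (· ≫ s) hs).trans (Category.id_comp s))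
      simp [r]
      rw [hs']
      exact sub_eq_zero.2 (Category.comp_id s)
    haveI : Epi r := SplitEpi.epi ⟨kernel.ι _, hr⟩
    have hc : IsColimit (CokernelCofork.ofπ r hsr) :=
      CokernelCofork.IsColimit.ofπ r hsr (fun k _ => kernel.ι (R.map p) ≫ k)
        (fun k hk => by simp [r, Preadditive.sub_comp, hk])
        (fun k hk φ hφ => by rw [← hφ, reassoc_of% hr])
    let ec₀ := IsColimit.coconePointUniqueUpToIso (cokernelIsCokernel s) hc
    let ec : cokernel s ≅ R.obj (kernel p) := ec₀ ≪≫ i.symm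
    exact ⟨W, hx, H23.PullPush.isFinLocFree_of_iso ec
      (isFinLocFree_cokernel s (isFinLocFree_restrict W hB) (isFinLocFree_restrict W hA)
        (IsFlat.of_iso ec.symm (IsFlat.of_retract (i.hom ≫ kernel.ι (R.map p)) (r ≫ i.inv)
          (by rw [Category.assoc, reassoc_of% hr, Iso.hom_inv_id])
          (isFlat_of_isFinLocFree (isFinLocFree_restrict W hA)))))⟩

/-- A strictly perfect complex without cohomology above `m` can be cut off at `m`. -/
lemma exists_cutoff (m : ℤ) (d : ℕ) : ∀ (P : CochainComplex X.Modules ℤ),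
    DCoh.IsStrictlyPerfect P → (∀ i, m + d < i → IsZero (P.X i)) →
    (∀ i, m < i → IsZero (P.homology i)) →
    ∃ P' : CochainComplex X.Modules ℤ, DCoh.IsStrictlyPerfect P' ∧ (∀ i, m < i → IsZero (P'.X i)) ∧
      (∀ a, a ≤ m → (∀ i, i < a → IsZero (P.X i)) → ∀ i, i < a → IsZero (P'.X i)) ∧
      Nonempty (DerivedCategory.Q.obj P' ≅ DerivedCategory.Q.obj P) := by
  induction d with
  | zero => exact fun P hP hz _ => ⟨P, hP, fun i hi => hz i (by simpa using hi), fun _ _ h => h, ⟨Iso.refl _⟩⟩
  | succ d ih =>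
    intro P hP hz hh
    let b := m + d
    haveI : CochainComplex.IsLE P b := (CochainComplex.isLE_iff P b).2 fun i hi =>
      (HomologicalComplex.exactAt_iff_isZero_homology _ _).2 (hh i (by omega))
    let P₁ := CochainComplex.truncLE P b
    have hepi : Epi (P.d b (b + 1)) := by
      have hex := (HomologicalComplex.exactAt_iff' P b (b + 1) (b + 2) (by simp)
        (by simp; omega)).1 ((HomologicalComplex.exactAt_iff_isZero_homology _ _).2
          (hh (b + 1) (by omega)))
      exact hex.epi_f ((hz (b + 2) (by push_cast; omega)).eq_of_tgt _ _)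
    obtain ⟨⟨a₀, b₀, hab⟩, hf⟩ := hP
    have hflf : ∀ i, FlatMod.IsFinLocFree (P₁.X i) := fun i => by
      rcases lt_trichotomy i b with hi | hi | hi
      · exact H23.PullPush.isFinLocFree_of_iso (CochainComplex.truncLEXIso P b i hi).symm (hf i)
      · subst hi
        let k₀ := IsLimit.conePointUniqueUpToIso (kernelIsKernel (P.d b (b + 1)))
          (P.cyclesIsKernel b (b + 1) (by simp))
        exact H23.PullPush.isFinLocFree_of_iso
          (k₀ ≪≫ (CochainComplex.truncLEXIsoCycles P b).symm)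
          (isFinLocFree_kernel (P.d b (b + 1)) (hf b) (hf (b + 1)))
      · exact isFinLocFree_of_isZero (P₁.isZero_of_isStrictlyLE b i hi)
    have hv : DCoh.VanishesOutside P₁ (min a₀ b) b := by
      rintro i (hi | hi)
      · exact (hab i (Or.inl (by omega))).of_iso (CochainComplex.truncLEXIso P b i (by omega))
      · exact P₁.isZero_of_isStrictlyLE b i hi
    haveI : QuasiIso (CochainComplex.ιTruncLE P b) := inferInstance
    let e : DerivedCategory.Q.obj P₁ ≅ DerivedCategory.Q.obj P :=
      @asIso _ _ _ _ (DerivedCategory.Q.map (CochainComplex.ιTruncLE P b))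
        (isIso_Q_map _ inferInstance)
    obtain ⟨P', hP', hz', hlow, ⟨e'⟩⟩ := ih P₁ ⟨⟨_, _, hv⟩, hflf⟩
      (fun i hi => P₁.isZero_of_isStrictlyLE b i hi)
      (fun i hi => (hh i hi).of_iso (((DerivedCategory.homologyFunctorFactors _ i).app P₁).symm ≪≫
        (DerivedCategory.homologyFunctor _ i).mapIso e ≪≫
        (DerivedCategory.homologyFunctorFactors _ i).app P))
    exact ⟨P', hP', hz', fun a ha hPa => hlow a ha fun i hi =>
      (hPa i hi).of_iso (CochainComplex.truncLEXIso P b i (by omega)), ⟨e' ≪≫ e⟩⟩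

/-- The cohomology sheaves restrict. -/
noncomputable def hdRhoIso {U : Scheme.{u}} (j : U ⟶ X) [IsOpenImmersion j] (K : DCoh.D X) (i : ℤ) :
    DCoh.HD ((rho j).obj K) i ≅ (DCoh.HD K i).restrict j :=
  (DerivedCategory.homologyFunctor U.Modules i).mapIso
      ((rho j).mapIso (repIso K).symm ≪≫ (rhoQ j).app _) ≪≫
    (DerivedCategory.homologyFunctorFactors U.Modules i).app _ ≪≫
    ((DerivedCategory.Q.objPreimage K).sc i).mapHomologyIso (Scheme.Modules.restrictFunctor j) ≪≫
    (Scheme.Modules.restrictFunctor j).mapIso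
      (((DerivedCategory.homologyFunctorFactors X.Modules i).app _).symm ≪≫
        (DerivedCategory.homologyFunctor X.Modules i).mapIso (repIso K))

/-- The top cohomology, locally. -/
lemma exists_top_presentation {m k : ℤ} (hmk : m ≤ k) {K : DCoh.D X} (hK : LocPC m K)
    (hz : ∀ i, k < i → IsZero (DCoh.HD K i)) (x : X) :
    ∃ (U : Scheme.{u}) (j : U ⟶ X) (_ : IsOpenImmersion j), x ∈ Set.range j.base ∧
      ∃ (A B : U.Modules) (d : A ⟶ B) (φ : cokernel d ⟶ (DCoh.HD K k).restrict j),
        FlatMod.IsFinLocFree A ∧ FlatMod.IsFinLocFree B ∧ Epi φ ∧ (m < k → IsIso φ) := by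
  obtain ⟨U, j, _, hx, P, α, hP, hα⟩ := hK x
  obtain ⟨a, b, hab⟩ := hP.1
  obtain ⟨P', hP', hz', -, ⟨e⟩⟩ := exists_cutoff k (max b k - k).toNat P hP
    (fun i hi => hab i (Or.inr (by omega))) (fun i hi => by
      haveI := hα.1 i (by omega)
      exact (((Scheme.Modules.restrictFunctor j).map_isZero (hz i hi)).of_iso
        (hdRhoIso j K i)).of_iso (((DerivedCategory.homologyFunctorFactors _ i).app P).symm ≪≫
          asIso ((DerivedCategory.homologyFunctor U.Modules i).map α)))
  haveI : IsIso (P'.homologyι k) :=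
    P'.isIso_homologyι k (k + 1) (by simp) ((hz' (k + 1) (by omega)).eq_of_tgt _ _)
  let c₀ := IsColimit.coconePointUniqueUpToIso (cokernelIsCokernel (P'.d (k - 1) k))
    (P'.opcyclesIsCokernel (k - 1) k (by simp))
  let c : cokernel (P'.d (k - 1) k) ≅ DCoh.HD (DerivedCategory.Q.obj P) k :=
    c₀ ≪≫ (asIso (P'.homologyι k)).symm ≪≫
      ((DerivedCategory.homologyFunctorFactors _ k).app P').symm ≪≫
      (DerivedCategory.homologyFunctor _ k).mapIso e
  haveI hepi : Epi ((DerivedCategory.homologyFunctor U.Modules k).map α) := (hα.mono hmk).2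
  refine ⟨U, j, inferInstance, hx, _, _, P'.d (k - 1) k,
    c.hom ≫ (DerivedCategory.homologyFunctor U.Modules k).map α ≫ (hdRhoIso j K k).hom,
    hP'.2 _, hP'.2 _, epi_comp' inferInstance (epi_comp' hepi inferInstance), fun hlt => ?_⟩
  haveI := hα.1 k hlt
  exact IsIso.comp_isIso

/-- Shrinking a presentation to free modules on an open. -/
lemma exists_free_pair {U : Scheme.{u}} (j : U ⟶ X) [IsOpenImmersion j] {A B : U.Modules}
    (hA : FlatMod.IsFinLocFree A) (hB : FlatMod.IsFinLocFree B) {x : X}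
    (hx : x ∈ Set.range j.base) :
    ∃ (V : X.Opens) (i : (V : Scheme.{u}) ⟶ U) (_ : IsOpenImmersion i) (m n : ℕ),
      x ∈ V ∧ i ≫ j = V.ι ∧ Nonempty (A.restrict i ≅ FlatMod.freeMod (V : Scheme.{u}) m) ∧
        Nonempty (B.restrict i ≅ FlatMod.freeMod (V : Scheme.{u}) n) := by
  obtain ⟨u', rfl⟩ := hx
  obtain ⟨W₁, p, h₁, ⟨e₁⟩⟩ := hA u'
  obtain ⟨W₂, q, h₂, ⟨e₂⟩⟩ := hB u'
  let W := W₁ ⊓ W₂
  let k := W.ι ≫ j
  let i := rangeHom k ≫ W.ι
  have hfree : ∀ {M : U.Modules} {n : ℕ}, (M.restrict W.ι ≅ FlatMod.freeMod (W : Scheme.{u}) n) →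
      Nonempty (M.restrict i ≅ FlatMod.freeMod (k.opensRange : Scheme.{u}) n) := fun {M n} e =>
    ⟨(Scheme.Modules.restrictFunctorComp (rangeHom k) W.ι).app M ≪≫
      (Scheme.Modules.restrictFunctor (rangeHom k)).mapIso e ≪≫
      (Scheme.Modules.restrictFunctorIsoPullback (rangeHom k)).app _ ≪≫ pullFreeIso _ _⟩
  exact ⟨k.opensRange, i, inferInstance, p, q, ⟨⟨u', h₁, h₂⟩, rfl⟩,
    (Category.assoc _ _ _).trans (rangeHom_fac k),
    hfree (restrictFreeIso inf_le_left e₁), hfree (restrictFreeIso inf_le_right e₂)⟩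

/-- Restricting twice. -/
noncomputable def restrict₂Iso {U V : Scheme.{u}} (i : V ⟶ U) [IsOpenImmersion i] (j : U ⟶ X)
    [IsOpenImmersion j] (k : V ⟶ X) [IsOpenImmersion k] (h : i ≫ j = k) (M : X.Modules) :
    (M.restrict j).restrict i ≅ M.restrict k :=
  ((Scheme.Modules.restrictFunctorComp i j).app M).symm ≪≫
    (Scheme.Modules.restrictFunctorCongr h).app M

lemma isFT_top {m : ℤ} {K : DCoh.D X} (hK : LocPC m K)
    (hz : ∀ i, m < i → IsZero (DCoh.HD K i)) : CohB1.IsFT (DCoh.HD K m) :=
  isFT_of_epi_free fun x => by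
    obtain ⟨U, j, _, hx, A, B, d, φ, hA, hB, hφ, -⟩ := exists_top_presentation le_rfl hK hz x
    obtain ⟨V, i, _, a, b, hxV, hij, -, ⟨eB⟩⟩ := exists_free_pair j hA hB hx
    let R := Scheme.Modules.restrictFunctor i
    haveI : Epi (R.map (cokernel.π d ≫ φ)) := inferInstance
    exact ⟨V, b, eB.inv ≫ R.map (cokernel.π d ≫ φ) ≫ (restrict₂Iso i j V.ι hij _).hom, hxV,
      epi_comp' inferInstance (epi_comp' inferInstance inferInstance)⟩

lemma isFP_top {m : ℤ} {K : DCoh.D X} (hK : LocPC m K)
    (hz : ∀ i, m + 1 < i → IsZero (DCoh.HD K i)) : CohB1.IsFP (DCoh.HD K (m + 1)) :=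
  isFP_of_free fun x => by
    obtain ⟨U, j, _, hx, A, B, d, φ, hA, hB, -, hφ⟩ :=
      exists_top_presentation (by omega : m ≤ m + 1) hK hz x
    haveI := hφ (by omega)
    obtain ⟨V, i, _, a, b, hxV, hij, ⟨eA⟩, ⟨eB⟩⟩ := exists_free_pair j hA hB hx
    let R := Scheme.Modules.restrictFunctor i
    exact ⟨V, a, b, eA.inv ≫ R.map d ≫ eB.hom, hxV,
      ⟨cokernel.mapIso _ (R.map d) eA.symm eB.symm (by simp) ≪≫
        (PreservesCokernel.iso R d).symm ≪≫ R.mapIso (asIso φ) ≪≫ restrict₂Iso i j V.ι hij _⟩⟩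

section Single

lemma hd_single_isZero (F : X.Modules) (i : ℤ) (hi : i ≠ 0) :
    IsZero (DCoh.HD (DCoh.inD X F) i) :=
  (ShortComplex.isZero_homology_of_isZero_X₂ _
    (HomologicalComplex.isZero_single_obj_X (ComplexShape.up ℤ) 0 F i hi)).of_iso
    ((DerivedCategory.homologyFunctor X.Modules i).mapIso
      ((DerivedCategory.singleFunctorIsoCompQ X.Modules 0).app F) ≪≫
      (DerivedCategory.homologyFunctorFactors X.Modules i).app _)

/-- The cohomology of a module in degree zero. -/
noncomputable def hdSingleIso (F : X.Modules) : DCoh.HD (DCoh.inD X F) 0 ≅ F :=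
  (DerivedCategory.homologyFunctor X.Modules 0).mapIso
      ((DerivedCategory.singleFunctorIsoCompQ X.Modules 0).app F) ≪≫
    (DerivedCategory.homologyFunctorFactors X.Modules 0).app _ ≪≫
    HomologicalComplex.singleObjHomologySelfIso _ 0 F

lemma isStrictlyPerfect_single (n : ℕ) : DCoh.IsStrictlyPerfect
    ((HomologicalComplex.single X.Modules (ComplexShape.up ℤ) 0).obj (FlatMod.freeMod X n)) :=
  ⟨⟨0, 0, fun i hi => HomologicalComplex.isZero_single_obj_X (ComplexShape.up ℤ) 0 _ i (by omega)⟩,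
    fun i => by
      rcases eq_or_ne i 0 with h | h
      · subst h
        exact H23.PullPush.isFinLocFree_of_iso
          (HomologicalComplex.singleObjXSelf (ComplexShape.up ℤ) 0 _).symm (isFinLocFree_freeMod n)
      · exact isFinLocFree_of_isZero
          (HomologicalComplex.isZero_single_obj_X (ComplexShape.up ℤ) 0 _ i h)⟩

lemma isPcMap_single_map {A B : X.Modules} (p : A ⟶ B) [Epi p] :
    IsPcMap 0 ((DerivedCategory.singleFunctor X.Modules 0).map p) := by
  let e := DerivedCategory.singleFunctorIsoCompQ X.Modules 0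
  have h : (DerivedCategory.singleFunctor X.Modules 0).map p = e.hom.app A ≫
      DerivedCategory.Q.map ((HomologicalComplex.single X.Modules (ComplexShape.up ℤ) 0).map p) ≫
        e.inv.app B := (NatIso.naturality_2 e p).symm
  rw [h]
  refine IsPcMap.comp_iso (e.app A).hom (isPcMap_of_homologyMap 0 _ (fun i hi => ?_) ?_) (e.app B).inv
  · have hz : ∀ M : X.Modules, IsZero
        (((HomologicalComplex.single X.Modules (ComplexShape.up ℤ) 0).obj M).homology i) := fun M =>
      ShortComplex.isZero_homology_of_isZero_X₂ _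
        (HomologicalComplex.isZero_single_obj_X (ComplexShape.up ℤ) 0 M i (by omega))
    exact ⟨0, (hz A).eq_of_src _ _, (hz B).eq_of_src _ _⟩
  · let σ := HomologicalComplex.homologyFunctorSingleIso X.Modules (ComplexShape.up ℤ) 0
    change Epi ((HomologicalComplex.single X.Modules (ComplexShape.up ℤ) 0 ⋙
      HomologicalComplex.homologyFunctor X.Modules (ComplexShape.up ℤ) 0).map p)
    rw [← NatIso.naturality_2 σ p]
    exact epi_comp' inferInstance (epi_comp' (inferInstanceAs (Epi p)) inferInstance)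

lemma locPC_of_isFT (F : X.Modules) (h : CohB1.IsFT F) : LocPC 0 (DCoh.inD X F) := fun x => by
  obtain ⟨W, n, p, hx, hp⟩ := exists_epi_free_of_isFT h x
  let e := DerivedCategory.singleFunctorIsoCompQ (W : Scheme.{u}).Modules 0
  exact ⟨_, W.ι, inferInstance, ⟨⟨x, hx⟩, rfl⟩, _,
    e.inv.app _ ≫ (DerivedCategory.singleFunctor (W : Scheme.{u}).Modules 0).map p ≫
      (((Scheme.Modules.restrictFunctor W.ι).mapDerivedCategorySingleFunctor 0).app F).inv,
    isStrictlyPerfect_single n, (isPcMap_single_map p).comp_iso _ _⟩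

lemma locPC_of_isFP (F : X.Modules) (h : CohB1.IsFP F) : LocPC (-1) (DCoh.inD X F) :=
  LocPC.of_local fun x => by
    obtain ⟨W, a, b, d, hx, ⟨e⟩⟩ := exists_free_cokernel_of_isFP h x
    refine ⟨_, W.ι, inferInstance, ⟨⟨x, hx⟩, rfl⟩, ?_⟩
    refine LocPC.of_iso (((DerivedCategory.singleFunctor (W : Scheme.{u}).Modules 0).mapIso e) ≪≫
      (((Scheme.Modules.restrictFunctor W.ι).mapDerivedCategorySingleFunctor 0).app F).symm) ?_
    let π := cokernel.π d
    let S := ShortComplex.mk (kernel.ι π) π (kernel.condition π)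
    have hS : S.ShortExact := ShortComplex.ShortExact.mk'
      (ShortComplex.exact_of_f_is_kernel S (kernelIsKernel π))
      (inferInstanceAs (Mono (kernel.ι π))) (inferInstanceAs (Epi π))
    have hex : (ShortComplex.mk d π (cokernel.condition d)).Exact :=
      ShortComplex.exact_of_g_is_cokernel _ (cokernelIsCokernel d)
    haveI : Epi (kernel.lift π d (cokernel.condition d)) := hex.epi_kernelLift
    let T := hS.singleTriangle
    have h₁ : LocPC 0 T.obj₁ := fun y =>
      ⟨_, 𝟙 _, inferInstance, ⟨y, rfl⟩, _,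
        ((DerivedCategory.singleFunctorIsoCompQ _ 0).inv.app (FlatMod.freeMod _ a)) ≫
          (DerivedCategory.singleFunctor _ 0).map (kernel.lift π d (cokernel.condition d)) ≫
          ((rho (𝟙 _)).mapIso (Iso.refl _) ≪≫
            ((Scheme.Modules.restrictFunctor (𝟙 _)).mapDerivedCategorySingleFunctor 0).app _ ≪≫
            (DerivedCategory.singleFunctor _ 0).mapIso
              (Scheme.Modules.restrictFunctorId.app _)).inv,
        isStrictlyPerfect_single a, (isPcMap_single_map _).comp_iso _ _⟩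
    have h₂ : LocPC (-1) T.obj₂ := fun y =>
      ⟨_, 𝟙 _, inferInstance, ⟨y, rfl⟩, _,
        ((DerivedCategory.singleFunctorIsoCompQ _ 0).inv.app (FlatMod.freeMod _ b)) ≫
          ((((Scheme.Modules.restrictFunctor (𝟙 _)).mapDerivedCategorySingleFunctor 0).app _ ≪≫
            (DerivedCategory.singleFunctor _ 0).mapIso
              (Scheme.Modules.restrictFunctorId.app _)).inv),
        isStrictlyPerfect_single b, isPcMap_of_isIso _ _⟩
    exact locPC_obj₃ T hS.singleTriangle_distinguished (m := -1) h₁ h₂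

end Single

end Groth.Agent.KFlatLib
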