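import Groth.Agent.KFlatLib.Perfect.Tri
import Mathlib.CategoryTheory.Triangulated.Pretriangulated
import Mathlib.AlgebraicGeometry.OpenImmersion

/-!
# Perfect and pseudo-coherent objects: locality and triangles
-/

set_option linter.style.haveILetI false

universe u

open CategoryTheory CategoryTheory.Limits AlgebraicGeometry CategoryTheory.Pretriangulated

attribute [local instance] HasDerivedCategory.standard

namespace Groth.Agent.KFlatLib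

variable {X Y U V W : Scheme.{u}}

/-- Restriction in the derived category. -/
noncomputable abbrev rho (j : U ⟶ X) [IsOpenImmersion j] : DCoh.D X ⥤ DCoh.D U :=
  (Scheme.Modules.restrictFunctor j).mapDerivedCategory

/-- Restriction of complexes. -/
noncomputable abbrev rCx (j : U ⟶ X) [IsOpenImmersion j] :
    CochainComplex X.Modules ℤ ⥤ CochainComplex U.Modules ℤ :=
  (Scheme.Modules.restrictFunctor j).mapHomologicalComplex (ComplexShape.up ℤ)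

/-- Restriction commutes with `Q`. -/
noncomputable def rhoQ (j : U ⟶ X) [IsOpenImmersion j] :
    DerivedCategory.Q ⋙ rho j ≅ rCx j ⋙ DerivedCategory.Q :=
  (Scheme.Modules.restrictFunctor j).mapDerivedCategoryFactors

/-- Restriction twice commutes with `Q`. -/
noncomputable def rhoQ₂ (i : V ⟶ U) [IsOpenImmersion i] (j : U ⟶ X) [IsOpenImmersion j] :
    DerivedCategory.Q ⋙ rho j ⋙ rho i ≅ rCx j ⋙ rCx i ⋙ DerivedCategory.Q :=
  (Functor.associator _ _ _).symm ≪≫ Functor.isoWhiskerRight (rhoQ j) (rho i) ≪≫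
    Functor.associator _ _ _ ≪≫ Functor.isoWhiskerLeft _ (rhoQ i)

/-- A representative. -/
noncomputable def repIso (K : DCoh.D X) : DerivedCategory.Q.obj (DerivedCategory.Q.objPreimage K) ≅ K :=
  DerivedCategory.Q.objObjPreimageIso K

/-- Restricting twice. -/
noncomputable def rhoComp (i : V ⟶ U) [IsOpenImmersion i] (j : U ⟶ X) [IsOpenImmersion j]
    (k : V ⟶ X) [IsOpenImmersion k] (h : i ≫ j = k) (K : DCoh.D X) :
    (rho i).obj ((rho j).obj K) ≅ (rho k).obj K :=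
  (rho i).mapIso ((rho j).mapIso (repIso K).symm) ≪≫ (rhoQ₂ i j).app _ ≪≫
    DerivedCategory.Q.mapIso ((NatIso.mapHomologicalComplex
      ((Scheme.Modules.restrictFunctorComp i j).symm ≪≫ Scheme.Modules.restrictFunctorCongr h)
      (ComplexShape.up ℤ)).app _) ≪≫
    ((rhoQ k).app _).symm ≪≫ (rho k).mapIso (repIso K)

lemma isStrictlyPerfect_restrict (j : U ⟶ X) [IsOpenImmersion j]
    {P : CochainComplex X.Modules ℤ} (hP : DCoh.IsStrictlyPerfect P) :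
    DCoh.IsStrictlyPerfect ((rCx j).obj P) := by
  obtain ⟨⟨a, b, h⟩, hf⟩ := hP
  exact ⟨⟨a, b, fun i hi => (Scheme.Modules.restrictFunctor j).map_isZero (h i hi)⟩, fun i =>
    H23.PullPush.isFinLocFree_of_iso ((Scheme.Modules.restrictFunctorIsoPullback j).app _).symm
      (isFinLocFree_pullback j (hf i))⟩

lemma isStrictlyPerfect_shift {P : CochainComplex X.Modules ℤ} (hP : DCoh.IsStrictlyPerfect P)
    (n : ℤ) : DCoh.IsStrictlyPerfect (P⟦n⟧) := by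
  obtain ⟨⟨a, b, h⟩, hf⟩ := hP
  exact ⟨⟨a - n, b - n, fun i hi => h (i + n) (by omega)⟩, fun i => hf (i + n)⟩

lemma isStrictlyPerfect_stupidGE {P : CochainComplex X.Modules ℤ} (hP : DCoh.IsStrictlyPerfect P)
    (n : ℤ) : DCoh.IsStrictlyPerfect (stupidGE P n) := by
  obtain ⟨⟨a, b, h⟩, hf⟩ := hP
  refine ⟨⟨a, b, fun i hi => ?_⟩, fun i => ?_⟩
  · by_cases hn : n ≤ i
    · exact (h i hi).of_iso (eqToIso (stupidX_eq P n hn))
    · exact isZero_stupidX P n hn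
  · by_cases hn : n ≤ i
    · exact H23.PullPush.isFinLocFree_of_iso (eqToIso (stupidX_eq P n hn)).symm (hf i)
    · exact isFinLocFree_of_isZero (isZero_stupidX P n hn)

/-- Locally strictly perfect. -/
def LocSP (K : DCoh.D X) : Prop :=
  ∀ x : X, ∃ (U : Scheme.{u}) (j : U ⟶ X) (_ : IsOpenImmersion j), x ∈ Set.range j.base ∧
    ∃ P : CochainComplex U.Modules ℤ, DCoh.IsStrictlyPerfect P ∧
      Nonempty (DerivedCategory.Q.obj P ≅ (rho j).obj K)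

/-- Locally `m`-pseudo-coherent. -/
def LocPC (m : ℤ) (K : DCoh.D X) : Prop :=
  ∀ x : X, ∃ (U : Scheme.{u}) (j : U ⟶ X) (_ : IsOpenImmersion j), x ∈ Set.range j.base ∧
    ∃ (P : CochainComplex U.Modules ℤ) (α : DerivedCategory.Q.obj P ⟶ (rho j).obj K),
      DCoh.IsStrictlyPerfect P ∧ IsPcMap m α

/-- The identification of an open immersion with the inclusion of its range. -/
noncomputable def rangeHom (j : U ⟶ X) [IsOpenImmersion j] :
    (j.opensRange : Scheme.{u}) ⟶ U :=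
  (IsOpenImmersion.isoOfRangeEq j.opensRange.ι j (by simp)).hom

lemma rangeHom_fac (j : U ⟶ X) [IsOpenImmersion j] : rangeHom j ≫ j = j.opensRange.ι :=
  IsOpenImmersion.isoOfRangeEq_hom_fac _ _ _

instance (j : U ⟶ X) [IsOpenImmersion j] : IsOpenImmersion (rangeHom j) := by
  unfold rangeHom
  infer_instance

lemma isPerfect_iff (K : DCoh.D X) : DCoh.IsPerfect K ↔ LocSP K := by
  constructor
  · intro h x
    obtain ⟨V, hx, hV⟩ := h x
    obtain ⟨P, hP, ⟨e⟩⟩ := hV (DerivedCategory.Q.objPreimage K) ⟨repIso K⟩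
    exact ⟨_, V.ι, inferInstance, ⟨⟨x, hx⟩, rfl⟩, P, hP,
      ⟨e.symm ≪≫ ((rhoQ V.ι).app _).symm ≪≫ (rho V.ι).mapIso (repIso K)⟩⟩
  · intro h x
    obtain ⟨U, j, _, hx, P, hP, ⟨e⟩⟩ := h x
    refine ⟨j.opensRange, hx, fun F ⟨eF⟩ => ⟨_, isStrictlyPerfect_restrict (rangeHom j) hP, ⟨?_⟩⟩⟩
    exact ((rhoQ j.opensRange.ι).app F).symm ≪≫ (rho _).mapIso eF ≪≫
      (rhoComp (rangeHom j) j _ (rangeHom_fac j) K).symm ≪≫ (rho (rangeHom j)).mapIso e.symm ≪≫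
      (rhoQ (rangeHom j)).app P

lemma isPseudoCoherentD_iff (m : ℤ) (K : DCoh.D X) :
    DCoh.IsPseudoCoherentD m K ↔ LocPC m K := by
  constructor
  · intro h x
    obtain ⟨V, hx, hV⟩ := h x
    obtain ⟨P, α, hP, hα⟩ := hV (DerivedCategory.Q.objPreimage K) ⟨repIso K⟩
    exact ⟨_, V.ι, inferInstance, ⟨⟨x, hx⟩, rfl⟩, P,
      α ≫ (((rhoQ V.ι).app _).symm ≪≫ (rho V.ι).mapIso (repIso K)).hom, hP,
      IsPcMap.comp hα (isPcMap_of_isIso m _)⟩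
  · intro h x
    obtain ⟨U, j, _, hx, P, α, hP, hα⟩ := h x
    refine ⟨j.opensRange, hx, fun F ⟨eF⟩ => ?_⟩
    let e : (rho (rangeHom j)).obj ((rho j).obj K) ≅
        DerivedCategory.Q.obj ((DCoh.restrictCx j.opensRange).obj F) :=
      rhoComp (rangeHom j) j _ (rangeHom_fac j) K ≪≫ (rho _).mapIso eF.symm ≪≫
        (rhoQ j.opensRange.ι).app F
    exact ⟨_, ((rhoQ (rangeHom j)).app P).inv ≫ (rho (rangeHom j)).map α ≫ e.hom,
      isStrictlyPerfect_restrict (rangeHom j) hP, (hα.map_exact _).comp_iso _ _⟩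

/-- Two neighbourhoods have a common refinement. -/
lemma exists_common {x : X} (j₁ : U ⟶ X) [IsOpenImmersion j₁] (j₂ : V ⟶ X) [IsOpenImmersion j₂]
    (h₁ : x ∈ Set.range j₁.base) (h₂ : x ∈ Set.range j₂.base) :
    ∃ (W : Scheme.{u}) (k : W ⟶ X) (_ : IsOpenImmersion k) (i₁ : W ⟶ U) (i₂ : W ⟶ V)
      (_ : IsOpenImmersion i₁) (_ : IsOpenImmersion i₂),
      x ∈ Set.range k.base ∧ i₁ ≫ j₁ = k ∧ i₂ ≫ j₂ = k := by
  let O := j₁.opensRange ⊓ j₂.opensRange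
  have r₁ : Set.range O.ι.base ⊆ Set.range j₁.base := fun y hy => by
    obtain ⟨y', rfl⟩ := hy
    exact y'.2.1
  have r₂ : Set.range O.ι.base ⊆ Set.range j₂.base := fun y hy => by
    obtain ⟨y', rfl⟩ := hy
    exact y'.2.2
  haveI : IsOpenImmersion (IsOpenImmersion.lift j₁ O.ι r₁ ≫ j₁) := by
    rw [IsOpenImmersion.lift_fac]; infer_instance
  haveI : IsOpenImmersion (IsOpenImmersion.lift j₂ O.ι r₂ ≫ j₂) := by
    rw [IsOpenImmersion.lift_fac]; infer_instance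
  exact ⟨O, O.ι, inferInstance, IsOpenImmersion.lift j₁ O.ι r₁, IsOpenImmersion.lift j₂ O.ι r₂,
    IsOpenImmersion.of_comp _ j₁, IsOpenImmersion.of_comp _ j₂, ⟨⟨x, h₁, h₂⟩, rfl⟩,
    IsOpenImmersion.lift_fac _ _ _, IsOpenImmersion.lift_fac _ _ _⟩

lemma LocSP.of_iso {K L : DCoh.D X} (e : K ≅ L) (h : LocSP K) : LocSP L := fun x => by
  obtain ⟨U, j, _, hx, P, hP, ⟨e'⟩⟩ := h x
  exact ⟨U, j, _, hx, P, hP, ⟨e' ≪≫ (rho j).mapIso e⟩⟩

lemma LocPC.of_iso {m : ℤ} {K L : DCoh.D X} (e : K ≅ L) (h : LocPC m K) : LocPC m L := fun x => by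
  obtain ⟨U, j, _, hx, P, α, hP, hα⟩ := h x
  exact ⟨U, j, _, hx, P, α ≫ ((rho j).mapIso e).hom, hP, hα.comp (isPcMap_of_isIso m _)⟩

lemma LocPC.mono {m m' : ℤ} {K : DCoh.D X} (h : LocPC m K) (hm : m ≤ m') : LocPC m' K := fun x => by
  obtain ⟨U, j, _, hx, P, α, hP, hα⟩ := h x
  exact ⟨U, j, _, hx, P, α, hP, hα.mono hm⟩

lemma LocSP.locPC {K : DCoh.D X} (h : LocSP K) (m : ℤ) : LocPC m K := fun x => by
  obtain ⟨U, j, _, hx, P, hP, ⟨e⟩⟩ := h x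
  exact ⟨U, j, _, hx, P, e.hom, hP, isPcMap_of_isIso m _⟩

lemma LocPC.of_local {m : ℤ} {K : DCoh.D X}
    (h : ∀ x : X, ∃ (U : Scheme.{u}) (j : U ⟶ X) (_ : IsOpenImmersion j),
      x ∈ Set.range j.base ∧ LocPC m ((rho j).obj K)) : LocPC m K := fun x => by
  obtain ⟨U, j, _, ⟨u', rfl⟩, hU⟩ := h x
  obtain ⟨V, i, _, ⟨v, rfl⟩, P, α, hP, hα⟩ := hU u'
  exact ⟨V, i ≫ j, inferInstance, ⟨v, rfl⟩, P, α ≫ (rhoComp i j _ rfl K).hom, hP,
    hα.comp (isPcMap_of_isIso m _)⟩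

lemma LocPC.restrict {m : ℤ} {K : DCoh.D X} (h : LocPC m K) (j : U ⟶ X) [IsOpenImmersion j] :
    LocPC m ((rho j).obj K) := fun u' => by
  obtain ⟨U', j', _, hx, P, α, hP, hα⟩ := h (j.base u')
  obtain ⟨W, k, _, i₁, i₂, _, _, ⟨w, hw⟩, f₁, f₂⟩ := exists_common j' j hx ⟨u', rfl⟩
  refine ⟨W, i₂, inferInstance, ⟨w, ?_⟩, _, ((rhoQ i₁).app P).inv ≫ (rho i₁).map α ≫
    (rhoComp i₁ j' k f₁ K ≪≫ (rhoComp i₂ j k f₂ K).symm).hom, isStrictlyPerfect_restrict i₁ hP,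
    (hα.map_exact _).comp_iso _ _⟩
  apply j.isOpenEmbedding.injective
  rw [← hw, ← f₂]
  rfl

lemma LocSP.shift {K : DCoh.D X} (h : LocSP K) (n : ℤ) : LocSP (K⟦n⟧) := fun x => by
  obtain ⟨U, j, _, hx, P, hP, ⟨e⟩⟩ := h x
  exact ⟨U, j, _, hx, P⟦n⟧, isStrictlyPerfect_shift hP n,
    ⟨(DerivedCategory.Q.commShiftIso n).app P ≪≫ (shiftFunctor (DCoh.D U) n).mapIso e ≪≫
      (((rho j).commShiftIso n).app K).symm⟩⟩

lemma LocPC.shift {m : ℤ} {K : DCoh.D X} (h : LocPC m K) (n : ℤ) : LocPC (m - n) (K⟦n⟧) :=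
  fun x => by
    obtain ⟨U, j, _, hx, P, α, hP, hα⟩ := h x
    exact ⟨U, j, _, hx, P⟦n⟧,
      ((DerivedCategory.Q.commShiftIso n).app P).hom ≫ α⟦n⟧' ≫
        (((rho j).commShiftIso n).app K).inv,
      isStrictlyPerfect_shift hP n, (hα.shift n).comp_iso _ _⟩

lemma LocSP.of_shift {K : DCoh.D X} (n : ℤ) (h : LocSP (K⟦n⟧)) : LocSP K :=
  (h.shift (-n)).of_iso ((shiftEquiv (DCoh.D X) n).unitIso.app K).symm

lemma LocPC.of_shift {m : ℤ} {K : DCoh.D X} (n : ℤ) (h : LocPC (m - n) (K⟦n⟧)) : LocPC m K := by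
  have := (h.shift (-n)).of_iso ((shiftEquiv (DCoh.D X) n).unitIso.app K).symm
  rwa [show m - n - -n = m by omega] at this

/-- Two out of three, first form. -/
lemma locSP_obj₃ (T : Triangle (DCoh.D X)) (hT : T ∈ distinguishedTriangles)
    (h₁ : LocSP T.obj₁) (h₂ : LocSP T.obj₂) : LocSP T.obj₃ := fun x => by
  obtain ⟨U₁, j₁, _, hx₁, P₁, hP₁, ⟨e₁⟩⟩ := h₁ x
  obtain ⟨U₂, j₂, _, hx₂, P₂, hP₂, ⟨e₂⟩⟩ := h₂ x
  obtain ⟨W, k, _, i₁, i₂, _, _, ⟨w, rfl⟩, f₁, f₂⟩ := exists_common j₁ j₂ hx₁ hx₂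
  let c₁ : DerivedCategory.Q.obj ((rCx i₁).obj P₁) ≅ (rho k).obj T.obj₁ :=
    ((rhoQ i₁).app P₁).symm ≪≫ (rho i₁).mapIso e₁ ≪≫ rhoComp i₁ j₁ k f₁ _
  let c₂ : DerivedCategory.Q.obj ((rCx i₂).obj P₂) ≅ (rho k).obj T.obj₂ :=
    ((rhoQ i₂).app P₂).symm ≪≫ (rho i₂).mapIso e₂ ≪≫ rhoComp i₂ j₂ k f₂ _
  have hQ₁ := isStrictlyPerfect_restrict i₁ hP₁
  obtain ⟨V, β, hw, hβ⟩ :=
    exists_chain_rep hQ₁ (c₁.hom ≫ (rho k).map T.mor₁ ≫ c₂.inv) w
  let T' := (rho V.ι).mapTriangle.obj ((rho k).mapTriangle.obj T)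
  have hT' : T' ∈ distinguishedTriangles :=
    (rho V.ι).map_distinguished _ ((rho k).map_distinguished T hT)
  let S := DerivedCategory.Q.mapTriangle.obj (CochainComplex.mappingCone.triangle β)
  have hS : S ∈ distinguishedTriangles :=
    (DerivedCategory.mem_distTriang_iff _).2 ⟨_, _, β, ⟨Iso.refl _⟩⟩
  let e : S ≅ T' := isoTriangleOfIso₁₂ S T' hS hT'
    (((rhoQ V.ι).app _).symm ≪≫ (rho V.ι).mapIso c₁)
    (((rhoQ V.ι).app _).symm ≪≫ (rho V.ι).mapIso c₂) (by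
      change DerivedCategory.Q.map β ≫ (rhoQ V.ι).inv.app _ ≫ (rho V.ι).map c₂.hom =
        ((rhoQ V.ι).inv.app _ ≫ (rho V.ι).map c₁.hom) ≫ (rho V.ι).map ((rho k).map T.mor₁)
      have h' := (rhoQ V.ι).inv.app _ ≫= (hβ =≫ (rho V.ι).map c₂.hom)
      simp only [Functor.map_comp, Category.assoc] at h'
      rw [← Functor.map_comp_assoc] at h'
      simp only [Category.assoc]
      rw [← Functor.map_comp (rho V.ι) c₁.hom]
      refine Eq.trans ?_ (Eq.trans h'.symm ?_)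
      · simp [rhoQ]
      · simp [← Functor.map_comp])
  exact ⟨_, V.ι ≫ k, inferInstance, ⟨⟨w, hw⟩, rfl⟩, CochainComplex.mappingCone β,
    isStrictlyPerfect_cone β (isStrictlyPerfect_restrict V.ι hQ₁)
      (isStrictlyPerfect_restrict V.ι (isStrictlyPerfect_restrict i₂ hP₂)),
    ⟨Triangle.π₃.mapIso e ≪≫ rhoComp V.ι k _ rfl T.obj₃⟩⟩

/-- The key step: the cone of a map of pseudo-coherent objects. -/
lemma locPC_obj₃_aux {U : Scheme.{u}} (T : Triangle (DCoh.D U)) (hT : T ∈ distinguishedTriangles)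
    {m : ℤ} {P₁ P₂ : CochainComplex U.Modules ℤ} (hP₁ : DCoh.IsStrictlyPerfect P₁)
    (hP₁' : ∀ i : ℤ, i < m + 1 → IsZero (P₁.X i)) (hP₂ : DCoh.IsStrictlyPerfect P₂)
    (α₁ : DerivedCategory.Q.obj P₁ ⟶ T.obj₁) (h₁ : IsPcMap (m + 1) α₁)
    (α₂ : DerivedCategory.Q.obj P₂ ⟶ T.obj₂) (h₂ : IsPcMap m α₂) : LocPC m T.obj₃ := fun x => by
  let F := DerivedCategory.Q.objPreimage T.obj₂
  obtain ⟨F', g, s, hs, hfac⟩ := DerivedCategory.left_fac (α₂ ≫ (repIso T.obj₂).inv)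
  haveI := hs
  let δ : T.obj₂ ⟶ DerivedCategory.Q.obj F' := (repIso T.obj₂).inv ≫ DerivedCategory.Q.map s
  haveI : IsIso δ := inferInstance
  have hg : DerivedCategory.Q.map g = α₂ ≫ δ := by
    simp only [δ, ← Category.assoc]
    rw [hfac, Category.assoc, IsIso.inv_hom_id, Category.comp_id]
  have hgpc : IsPcMap m (DerivedCategory.Q.map g) := hg ▸ h₂.comp (isPcMap_of_isIso m δ)
  obtain ⟨V₁, β₁, hx₁, hβ₁⟩ := exists_chain_rep hP₁ (α₁ ≫ T.mor₁ ≫ δ) x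
  have hgpc₁ : IsPcMap (m + 1) (DerivedCategory.Q.map ((rCx V₁.ι).map g)) := by
    change IsPcMap (m + 1) ((rCx V₁.ι ⋙ DerivedCategory.Q).map g)
    rw [← NatIso.naturality_1 (rhoQ V₁.ι) g]
    exact ((hgpc.mono (by omega)).map_exact _).comp_iso _ _
  obtain ⟨V₂, β₂, hx₂, ⟨H⟩⟩ := exists_lift_homotopy β₁ ((rCx V₁.ι).map g)
    (isStrictlyPerfect_restrict V₁.ι hP₁) (m + 1)
    (fun i hi => (Scheme.Modules.restrictFunctor V₁.ι).map_isZero (hP₁' i hi)) hgpc₁ ⟨x, hx₁⟩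
  let Ψ := rhoQ₂ V₂.ι V₁.ι
  let G := rho V₁.ι ⋙ rho V₂.ι
  let T' := (rho V₂.ι).mapTriangle.obj ((rho V₁.ι).mapTriangle.obj T)
  have hT' : T' ∈ distinguishedTriangles :=
    (rho V₂.ι).map_distinguished _ ((rho V₁.ι).map_distinguished T hT)
  let S := DerivedCategory.Q.mapTriangle.obj (CochainComplex.mappingCone.triangle β₂)
  have hS : S ∈ distinguishedTriangles :=
    (DerivedCategory.mem_distTriang_iff _).2 ⟨_, _, β₂, ⟨Iso.refl _⟩⟩
  let a₁ : S.obj₁ ⟶ T'.obj₁ := Ψ.inv.app P₁ ≫ G.map α₁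
  let a₂ : S.obj₂ ⟶ T'.obj₂ := Ψ.inv.app P₂ ≫ G.map α₂
  have comm : S.mor₁ ≫ a₂ = a₁ ≫ T'.mor₁ := by
    change DerivedCategory.Q.map β₂ ≫ Ψ.inv.app P₂ ≫ G.map α₂ =
      (Ψ.inv.app P₁ ≫ G.map α₁) ≫ G.map T.mor₁
    haveI : IsIso (G.map δ) := inferInstance
    rw [← cancel_mono (G.map δ)]
    simp only [Category.assoc, ← Functor.map_comp]
    rw [← hg]
    have hH := Q_map_eq_of_homotopy H
    rw [Functor.map_comp] at hH
    have n₁ : Ψ.inv.app P₂ ≫ G.map (DerivedCategory.Q.map g) =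
        DerivedCategory.Q.map ((rCx V₂.ι).map ((rCx V₁.ι).map g)) ≫ Ψ.inv.app F' :=
      (Ψ.inv.naturality g).symm
    rw [n₁, reassoc_of% hH]
    have n₂ : DerivedCategory.Q.map ((rCx V₂.ι).map β₁) ≫
        (rhoQ V₂.ι).inv.app ((rCx V₁.ι).obj F') =
        (rhoQ V₂.ι).inv.app ((rCx V₁.ι).obj P₁) ≫ (rho V₂.ι).map (DerivedCategory.Q.map β₁) :=
      (rhoQ V₂.ι).inv.naturality β₁
    have n₃ := congrArg (fun φ => (rho V₂.ι).map φ) hβ₁
    refine Eq.trans ?_ (congrArg (fun φ => Ψ.inv.app P₁ ≫ φ) n₃.symm)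
    simp [Ψ, rhoQ₂, rhoQ] at n₂ ⊢
    erw [reassoc_of% n₂]
  let φ := completeDistinguishedTriangleMorphism S T' hS hT' a₁ a₂ comm
  have ha₁ : IsPcMap (m + 1) a₁ :=
    (isPcMap_of_isIso (m + 1) (Ψ.app P₁).inv).comp ((h₁.map_exact _).map_exact _)
  have ha₂ : IsPcMap m a₂ := (isPcMap_of_isIso m (Ψ.app P₂).inv).comp ((h₂.map_exact _).map_exact _)
  have hφ := isPcMap_hom₃ hS hT' φ ha₁ ha₂
  exact ⟨_, V₂.ι ≫ V₁.ι, inferInstance, ⟨⟨⟨x, hx₁⟩, hx₂⟩, rfl⟩, CochainComplex.mappingCone β₂,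
    φ.hom₃ ≫ (rhoComp V₂.ι V₁.ι _ rfl T.obj₃).hom,
    isStrictlyPerfect_cone β₂
      (isStrictlyPerfect_restrict _ (isStrictlyPerfect_restrict _ hP₁))
      (isStrictlyPerfect_restrict _ (isStrictlyPerfect_restrict _ hP₂)),
    hφ.comp (isPcMap_of_isIso m _)⟩

/-- Two out of three for pseudo-coherence, first form. -/
lemma locPC_obj₃ (T : Triangle (DCoh.D X)) (hT : T ∈ distinguishedTriangles) {m : ℤ}
    (h₁ : LocPC (m + 1) T.obj₁) (h₂ : LocPC m T.obj₂) : LocPC m T.obj₃ :=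
  LocPC.of_local fun x => by
    obtain ⟨U₁, j₁, _, hx₁, P₁, α₁, hP₁, hα₁⟩ := h₁ x
    obtain ⟨U₂, j₂, _, hx₂, P₂, α₂, hP₂, hα₂⟩ := h₂ x
    obtain ⟨W, k, _, i₁, i₂, _, _, hw, f₁, f₂⟩ := exists_common j₁ j₂ hx₁ hx₂
    have hR := isStrictlyPerfect_restrict i₁ hP₁
    exact ⟨W, k, _, hw, locPC_obj₃_aux ((rho k).mapTriangle.obj T)
      ((rho k).map_distinguished T hT) (isStrictlyPerfect_stupidGE hR (m + 1))
      (fun i hi => isZero_stupidGE _ (m + 1) hi) (isStrictlyPerfect_restrict i₂ hP₂)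
      (DerivedCategory.Q.map (stupidGEι _ (m + 1)) ≫ ((rhoQ i₁).app P₁).inv ≫ (rho i₁).map α₁ ≫
        (rhoComp i₁ j₁ k f₁ _).hom)
      ((isPcMap_stupidGEι _ (m + 1)).comp ((hα₁.map_exact _).comp_iso _ _))
      (((rhoQ i₂).app P₂).inv ≫ (rho i₂).map α₂ ≫ (rhoComp i₂ j₂ k f₂ _).hom)
      ((hα₂.map_exact _).comp_iso _ _)⟩

end Groth.Agent.KFlatLib

namespace Groth.Agent.KFlatLib

variable {X : Scheme.{u}}

/-- Two out of three for perfect objects. -/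
lemma locSP_two_of_three (T : Triangle (DCoh.D X)) (hT : T ∈ distinguishedTriangles) :
    (LocSP T.obj₁ → LocSP T.obj₂ → LocSP T.obj₃) ∧
    (LocSP T.obj₁ → LocSP T.obj₃ → LocSP T.obj₂) ∧
    (LocSP T.obj₂ → LocSP T.obj₃ → LocSP T.obj₁) :=
  ⟨locSP_obj₃ T hT, fun h₁ h₃ => locSP_obj₃ T.invRotate (inv_rot_of_distTriang T hT)
      (h₃.shift (-1)) h₁,
    fun h₂ h₃ => LocSP.of_shift 1 (locSP_obj₃ T.rotate (rot_of_distTriang T hT) h₂ h₃)⟩

/-- Two out of three for pseudo-coherent objects. -/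
lemma locPC_two_of_three (m : ℤ) (T : Triangle (DCoh.D X)) (hT : T ∈ distinguishedTriangles) :
    (LocPC (m + 1) T.obj₁ → LocPC m T.obj₂ → LocPC m T.obj₃) ∧
    (LocPC m T.obj₁ → LocPC m T.obj₃ → LocPC m T.obj₂) ∧
    (LocPC (m + 1) T.obj₂ → LocPC m T.obj₃ → LocPC (m + 1) T.obj₁) := by
  refine ⟨locPC_obj₃ T hT, fun h₁ h₃ => ?_, fun h₂ h₃ => ?_⟩
  · have h := h₃.shift (-1)
    rw [show m - -1 = m + 1 by omega] at h
    exact locPC_obj₃ T.invRotate (inv_rot_of_distTriang T hT) h h₁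
  · refine LocPC.of_shift 1 ?_
    rw [show m + 1 - 1 = m by omega]
    exact locPC_obj₃ T.rotate (rot_of_distTriang T hT) h₂ h₃

end Groth.Agent.KFlatLib
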