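import Groth.Agent.KFlatLib.Perfect.Local
import Mathlib.RingTheory.LocalRing.Module

/-!
# Spreading out maps from stalks, and flat finitely presented modules
-/

set_option linter.style.haveILetI false

universe u

open CategoryTheory CategoryTheory.Limits AlgebraicGeometry TopologicalSpace Opposite

namespace Groth.Agent.KFlatLib

variable {X : Scheme.{u}}

/-- A map of modules which is an isomorphism on an open is one on the stalks there. -/
lemma isIso_stalk_of_restrict {M N : X.Modules} (f : M ⟶ N) {W : X.Opens} {x : X} (hx : x ∈ W)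
    (h : IsIso ((Scheme.Modules.restrictFunctor W.ι).map f)) :
    IsIso ((DerSch.stalkFunctor X x).map f) := by
  have e := Scheme.Modules.restrictStalkNatIso W.ι ⟨x, hx⟩
  have h1 : IsIso ((TopCat.Presheaf.stalkFunctor Ab.{u} x).map
      ((Scheme.Modules.toPresheaf X).map f)) := by
    refine (NatIso.isIso_map_iff e f).mp ?_
    change IsIso ((TopCat.Presheaf.stalkFunctor Ab.{u} _).map ((Scheme.Modules.toPresheaf _).map
      ((Scheme.Modules.restrictFunctor W.ι).map f)))
    infer_instance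
  rw [ConcreteCategory.isIso_iff_bijective] at h1 ⊢
  exact h1

/-- `N ⟶ ι_* (N|_W)`. -/
noncomputable abbrev unitW (W : X.Opens) (N : X.Modules) :
    N ⟶ (Scheme.Modules.pushforward W.ι).obj (N.restrict W.ι) :=
  (Scheme.Modules.restrictAdjunction W.ι).unit.app N

lemma isIso_stalk_unitW {W : X.Opens} {x : X} (hx : x ∈ W) (N : X.Modules) :
    IsIso ((DerSch.stalkFunctor X x).map (unitW W N)) := by
  refine isIso_stalk_of_restrict _ hx ?_
  have h := (Scheme.Modules.restrictAdjunction W.ι).left_triangle_components N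
  haveI : IsIso ((Scheme.Modules.restrictFunctor W.ι).map (unitW W N) ≫
      (Scheme.Modules.restrictAdjunction W.ι).counit.app
        ((Scheme.Modules.restrictFunctor W.ι).obj N)) := by
    rw [h]; infer_instance
  exact IsIso.of_isIso_comp_right _
    ((Scheme.Modules.restrictAdjunction W.ι).counit.app ((Scheme.Modules.restrictFunctor W.ι).obj N))

/-- The map on the stalk at `x` of a map between restrictions to a neighbourhood. -/
noncomputable def stalkAt {W : X.Opens} {x : X} (hx : x ∈ W) {M N : X.Modules}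
    (φ : M.restrict W.ι ⟶ N.restrict W.ι) :
    (DerSch.stalkFunctor X x).obj M ⟶ (DerSch.stalkFunctor X x).obj N :=
  haveI := isIso_stalk_unitW hx N
  (DerSch.stalkFunctor X x).map (unitW W M ≫ (Scheme.Modules.pushforward W.ι).map φ) ≫
    inv ((DerSch.stalkFunctor X x).map (unitW W N))

variable {W : X.Opens} {x : X} (hx : x ∈ W) {M N L : X.Modules}

lemma stalkAt_spec (φ : M.restrict W.ι ⟶ N.restrict W.ι) :
    stalkAt hx φ ≫ (DerSch.stalkFunctor X x).map (unitW W N) =
      (DerSch.stalkFunctor X x).map (unitW W M ≫ (Scheme.Modules.pushforward W.ι).map φ) := by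
  simp [stalkAt]

lemma stalkAt_map (f : M ⟶ N) :
    stalkAt hx ((Scheme.Modules.restrictFunctor W.ι).map f) = (DerSch.stalkFunctor X x).map f := by
  haveI := isIso_stalk_unitW hx N
  rw [← cancel_mono ((DerSch.stalkFunctor X x).map (unitW W N)), stalkAt_spec, ← Functor.map_comp]
  exact congrArg _ ((Scheme.Modules.restrictAdjunction W.ι).unit.naturality f).symm

lemma stalkAt_comp (φ : M.restrict W.ι ⟶ N.restrict W.ι) (ψ : N.restrict W.ι ⟶ L.restrict W.ι) :
    stalkAt hx (φ ≫ ψ) = stalkAt hx φ ≫ stalkAt hx ψ := by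
  haveI := isIso_stalk_unitW hx L
  rw [← cancel_mono ((DerSch.stalkFunctor X x).map (unitW W L)), stalkAt_spec, Category.assoc,
    stalkAt_spec, Functor.map_comp (DerSch.stalkFunctor X x) (unitW W N),
    reassoc_of% (stalkAt_spec hx φ), ← Functor.map_comp, Category.assoc, ← Functor.map_comp]

lemma stalkAt_sub (φ ψ : M.restrict W.ι ⟶ N.restrict W.ι) :
    stalkAt hx (φ - ψ) = stalkAt hx φ - stalkAt hx ψ := by
  haveI := isIso_stalk_unitW hx N
  simp [stalkAt, Functor.map_sub, Preadditive.comp_sub, Preadditive.sub_comp]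

lemma stalkAt_id : stalkAt hx (𝟙 (M.restrict W.ι)) = 𝟙 _ := by
  rw [← CategoryTheory.Functor.map_id]
  exact (stalkAt_map hx (𝟙 M)).trans ((DerSch.stalkFunctor X x).map_id M)

/-- The standard basis germs of a free module. -/
noncomputable def eGerm (x : X) {n : ℕ} (i : Fin n) :
    (DerSch.stalkFunctor X x).obj (FlatMod.freeMod X n) :=
  (DerSch.stalkFunctor X x).map (Sigma.ι (fun _ : Fin n => Coh.structureModule X) i)
    (germP (DCoh.toP.obj (Coh.structureModule X)) ⊤ trivial (oneSec ⊤))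

/-- Maps out of the stalk of a free module are determined by the basis. -/
lemma free_stalk_ext {n : ℕ} {Z : ModuleCat.{u} (X.presheaf.stalk x)}
    {a b : (DerSch.stalkFunctor X x).obj (FlatMod.freeMod X n) ⟶ Z}
    (h : ∀ i, a (eGerm x i) = b (eGerm x i)) : a = b := by
  rw [← cancel_epi (PreservesCoproduct.iso (DerSch.stalkFunctor X x)
    (fun _ : Fin n => Coh.structureModule X)).inv]
  refine Sigma.hom_ext _ _ fun i => ?_
  simp only [PreservesCoproduct.inv_hom, ι_comp_sigmaComparison_assoc]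
  apply ModuleCat.hom_ext
  refine LinearMap.ext fun m => ?_
  obtain ⟨r, rfl⟩ : ∃ r, (stalkUnitEquiv x) r = m := ⟨_, (stalkUnitEquiv x).apply_symm_apply m⟩
  change a ((DerSch.stalkFunctor X x).map _
      (r • germP (DCoh.toP.obj (Coh.structureModule X)) ⊤ trivial (oneSec ⊤) :
        (DerSch.stalkFunctor X x).obj (Coh.structureModule X))) =
    b ((DerSch.stalkFunctor X x).map _
      (r • germP (DCoh.toP.obj (Coh.structureModule X)) ⊤ trivial (oneSec ⊤) :
        (DerSch.stalkFunctor X x).obj (Coh.structureModule X)))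
  have key : ∀ c : (DerSch.stalkFunctor X x).obj (FlatMod.freeMod X n) ⟶ Z,
      c ((DerSch.stalkFunctor X x).map (Sigma.ι (fun _ : Fin n => Coh.structureModule X) i)
        (r • germP (DCoh.toP.obj (Coh.structureModule X)) ⊤ trivial (oneSec ⊤) :
          (DerSch.stalkFunctor X x).obj (Coh.structureModule X))) = r • c (eGerm x i) := fun c =>
    ((DerSch.stalkFunctor X x).map
      (Sigma.ι (fun _ : Fin n => Coh.structureModule X) i) ≫ c).hom.map_smul r _
  exact (key a).trans ((congrArg (r • ·) (h i)).trans (key b).symm)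


/-- Prescribed germs: maps out of free modules exist on small neighbourhoods. -/
lemma exists_of_germs {n : ℕ} (N : X.Modules) (x : X)
    (v : Fin n → (DerSch.stalkFunctor X x).obj N) :
    ∃ U : X.Opens, x ∈ U ∧ ∀ (W : X.Opens) (hx : x ∈ W), W ≤ U →
      ∃ g : (FlatMod.freeMod X n).restrict W.ι ⟶ N.restrict W.ι,
        ∀ i, stalkAt hx g (eGerm x i) = v i := by
  choose U hU t ht using fun i => exists_germP (P := DCoh.toP.obj N) (x := x) (v i)
  refine ⟨Finset.univ.inf U, Finset.inf_induction (s := Finset.univ) (f := U)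
    (p := fun U => x ∈ U) trivial (fun _ ha _ hb => ⟨ha, hb⟩) fun i _ => hU i,
    fun W hx hW => ?_⟩
  have hWU : ∀ i, W ≤ U i := fun i => hW.trans (Finset.inf_le (Finset.mem_univ i))
  let G := (Scheme.Modules.pushforward W.ι).obj (N.restrict W.ι)
  let hc : ∀ _ : Fin n, Coh.structureModule X ⟶ G := fun i => G.unitHomEquiv.symm
    (PresheafOfModules.sectionsMk
      (fun V => (show G.val.obj V from
        res (DCoh.toP.obj N) (homOfLE ((image_le W (W.ι ⁻¹ᵁ V.unop)).trans (hWU i))) (t i)))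
      (fun {V V'} f => by
        change res (DCoh.toP.obj N) (homOfLE (Scheme.Hom.image_mono _
            (Scheme.Hom.preimage_mono _ f.unop.le)))
            (res (DCoh.toP.obj N) (homOfLE ((image_le W (W.ι ⁻¹ᵁ V.unop)).trans (hWU i))) (t i)) =
          res (DCoh.toP.obj N) (homOfLE ((image_le W (W.ι ⁻¹ᵁ V'.unop)).trans (hWU i))) (t i)
        rw [res_res]
        exact res_congr _ _ _))
  let g : (FlatMod.freeMod X n).restrict W.ι ⟶ N.restrict W.ι :=
    ((Scheme.Modules.restrictAdjunction W.ι).homEquiv _ _).symm (Sigma.desc hc)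
  refine ⟨g, fun i => ?_⟩
  haveI := isIso_stalk_unitW hx N
  have hg : unitW W (FlatMod.freeMod X n) ≫ (Scheme.Modules.pushforward W.ι).map g =
      Sigma.desc hc :=
    ((Scheme.Modules.restrictAdjunction W.ι).homEquiv _ _).apply_symm_apply (Sigma.desc hc)
  apply ((ConcreteCategory.isIso_iff_bijective ((DerSch.stalkFunctor X x).map (unitW W N))).1
    inferInstance).1
  rw [← CategoryTheory.comp_apply, stalkAt_spec, hg, eGerm, ← CategoryTheory.comp_apply,
    ← Functor.map_comp, Sigma.ι_desc, ← ht i]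
  refine (DerSch.stalkFunctor_map_germ x (hc i) ⊤ trivial _).trans ?_
  refine Eq.trans ?_ (DerSch.stalkFunctor_map_germ x (unitW W N) (U i) (hU i) (t i)).symm
  have hval : (DCoh.toP.map (hc i)).app (op ⊤) (oneSec ⊤) = (show (DCoh.toP.obj G).obj (op ⊤) from
      res (DCoh.toP.obj N) (homOfLE ((image_le W (W.ι ⁻¹ᵁ ⊤)).trans (hWU i))) (t i)) := by
    exact congrArg (fun s => s.val (op ⊤)) (Equiv.apply_symm_apply G.unitHomEquiv
      (PresheafOfModules.sectionsMk _ _))
  change germP (DCoh.toP.obj G) ⊤ trivial ((DCoh.toP.map (hc i)).app (op ⊤) (oneSec ⊤)) =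
    germP (DCoh.toP.obj G) (U i) (hU i) ((DCoh.toP.map (unitW W N)).app (op (U i)) (t i))
  rw [hval, ← germP_res (P := DCoh.toP.obj G) (homOfLE (le_top : U i ≤ ⊤)) (hU i)]
  refine congrArg _ ?_
  change res (DCoh.toP.obj N) (homOfLE (Scheme.Hom.image_mono _
      (Scheme.Hom.preimage_mono _ le_top))) (res (DCoh.toP.obj N) _ (t i)) =
    res (DCoh.toP.obj N) (homOfLE (Scheme.Hom.image_preimage_le W.ι (U i))) (t i)
  rw [res_res]
  exact res_congr _ _ _

/-- A map out of a free module killing the germs is locally zero. -/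
lemma exists_restrict_eq_zero {n : ℕ} {G : X.Modules} (f : FlatMod.freeMod X n ⟶ G) (x : X)
    (h : ∀ i, (DerSch.stalkFunctor X x).map f (eGerm x i) = 0) :
    ∃ U : X.Opens, x ∈ U ∧ ∀ W : X.Opens, W ≤ U →
      (Scheme.Modules.restrictFunctor W.ι).map f = 0 := by
  let fi := fun i => Sigma.ι (fun _ : Fin n => Coh.structureModule X) i ≫ f
  have hgerm : ∀ i, germP (DCoh.toP.obj G) ⊤ trivial
      ((DCoh.toP.map (fi i)).app (op ⊤) (oneSec ⊤)) = 0 := fun i => by
    refine ((DerSch.stalkFunctor_map_germ x (fi i) ⊤ trivial _).symm.trans ?_)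
    refine Eq.trans ?_ (h i)
    rw [eGerm, ← CategoryTheory.comp_apply, ← Functor.map_comp]
    rfl
  choose U hU j hj hres using fun i => TopCat.Presheaf.germ_eq (C := AddCommGrpCat.{u})
    (DCoh.toP.obj G).presheaf x (show x ∈ (⊤ : X.Opens) from trivial)
    (show x ∈ (⊤ : X.Opens) from trivial) _ 0 ((hgerm i).trans (map_zero _).symm)
  refine ⟨Finset.univ.inf U, Finset.inf_induction (s := Finset.univ) (f := U)
    (p := fun U => x ∈ U) trivial (fun _ ha _ hb => ⟨ha, hb⟩) fun i _ => hU i,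
    fun W hW => ?_⟩
  rw [← cancel_epi (PreservesCoproduct.iso (Scheme.Modules.restrictFunctor W.ι)
    (fun _ : Fin n => Coh.structureModule X)).inv]
  refine Sigma.hom_ext _ _ fun i => ?_
  simp only [PreservesCoproduct.inv_hom, ι_comp_sigmaComparison_assoc, comp_zero]
  rw [← Functor.map_comp]
  refine Scheme.Modules.hom_ext _ _ fun V => ?_
  ext a
  have hW' : W.ι ''ᵁ V ≤ U i := (image_le W V).trans (hW.trans (Finset.inf_le (Finset.mem_univ i)))
  change (DCoh.toP.map (fi i)).app (op (W.ι ''ᵁ V))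
    (show (DCoh.toP.obj (Coh.structureModule X)).obj (op (W.ι ''ᵁ V)) from a) = 0
  refine (congrArg _ (sm_oneSec (show X.presheaf.obj (op (W.ι ''ᵁ V)) from a)).symm).trans ?_
  refine (app_sm (DCoh.toP.map (fi i)) (U := op (W.ι ''ᵁ V))
    (show X.presheaf.obj (op (W.ι ''ᵁ V)) from a) (oneSec (W.ι ''ᵁ V))).trans ?_
  have hzero : (DCoh.toP.map (fi i)).app (op (W.ι ''ᵁ V)) (oneSec (W.ι ''ᵁ V)) = 0 := by
    rw [← res_oneSec (homOfLE (le_top : W.ι ''ᵁ V ≤ ⊤)), app_res,
      res_congr _ (homOfLE hW' ≫ j i), ← res_res]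
    have h0 : res (DCoh.toP.obj G) (j i) ((DCoh.toP.map (fi i)).app (op ⊤) (oneSec ⊤)) = 0 :=
      (hres i).trans (map_zero _)
    rw [h0, map_zero]
  rw [hzero]
  exact smul_zero _

/-- Restriction of a map between restrictions. -/
noncomputable def resHom {W' : X.Opens} (h : W' ≤ W) (φ : M.restrict W.ι ⟶ N.restrict W.ι) :
    M.restrict W'.ι ⟶ N.restrict W'.ι :=
  let σ := Scheme.Modules.restrictFunctorCongr (X.homOfLE_ι h).symm ≪≫
    Scheme.Modules.restrictFunctorComp (X.homOfLE h) W.ι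
  σ.hom.app M ≫ (Scheme.Modules.restrictFunctor (X.homOfLE h)).map φ ≫ σ.inv.app N

variable {W' : X.Opens} (h : W' ≤ W)

lemma resHom_comp (φ : M.restrict W.ι ⟶ N.restrict W.ι) (ψ : N.restrict W.ι ⟶ L.restrict W.ι) :
    resHom h (φ ≫ ψ) = resHom h φ ≫ resHom h ψ := by
  simp [resHom]

lemma resHom_map (f : M ⟶ N) :
    resHom h ((Scheme.Modules.restrictFunctor W.ι).map f) =
      (Scheme.Modules.restrictFunctor W'.ι).map f :=
  NatIso.naturality_2 (Scheme.Modules.restrictFunctorCongr (X.homOfLE_ι h).symm ≪≫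
    Scheme.Modules.restrictFunctorComp (X.homOfLE h) W.ι) f

lemma resHom_zero : resHom h (0 : M.restrict W.ι ⟶ N.restrict W.ι) = 0 := by
  simp [resHom]

lemma resHom_sub (φ ψ : M.restrict W.ι ⟶ N.restrict W.ι) :
    resHom h (φ - ψ) = resHom h φ - resHom h ψ := by
  simp [resHom, Functor.map_sub, Preadditive.comp_sub, Preadditive.sub_comp]

lemma resHom_id : resHom h (𝟙 (M.restrict W.ι)) = 𝟙 _ := by
  rw [← CategoryTheory.Functor.map_id]
  exact (resHom_map h (𝟙 M)).trans ((Scheme.Modules.restrictFunctor W'.ι).map_id M)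

/-- A map between restrictions out of a free module killing the germs is zero nearby. -/
lemma exists_resHom_eq_zero {n : ℕ} (g : (FlatMod.freeMod X n).restrict W.ι ⟶ N.restrict W.ι)
    (hx : x ∈ W) (hg : stalkAt hx g = 0) :
    ∃ U : X.Opens, x ∈ U ∧ ∀ (W' : X.Opens) (h : W' ≤ W), W' ≤ U → resHom h g = 0 := by
  let f := unitW W (FlatMod.freeMod X n) ≫ (Scheme.Modules.pushforward W.ι).map g
  have hf : ∀ i, (DerSch.stalkFunctor X x).map f (eGerm x i) = 0 := fun i => by
    rw [← stalkAt_spec hx g, hg, zero_comp]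
    rfl
  obtain ⟨U, hU, hres⟩ := exists_restrict_eq_zero f x hf
  refine ⟨U, hU, fun W' h hle => ?_⟩
  have hg' : g = (Scheme.Modules.restrictFunctor W.ι).map f ≫
      (Scheme.Modules.restrictAdjunction W.ι).counit.app (N.restrict W.ι) :=
    (((Scheme.Modules.restrictAdjunction W.ι).homEquiv _ _).symm_apply_apply g).symm.trans
      ((Scheme.Modules.restrictAdjunction W.ι).homEquiv_counit ..)
  rw [hg', resHom_comp, resHom_map, hres W' hle, zero_comp]

/-- The cokernel of a map of free modules is free near a point where its stalk is flat. -/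
lemma exists_free_of_flat_stalk {p q : ℕ} (d : FlatMod.freeMod X p ⟶ FlatMod.freeMod X q)
    (hflat : FlatMod.IsFlat (cokernel d)) (x : X) :
    ∃ (W : X.Opens) (r : ℕ), x ∈ W ∧
      Nonempty ((cokernel d).restrict W.ι ≅ FlatMod.freeMod (W : Scheme.{u}) r) := by
  let S := DerSch.stalkFunctor X x
  let C := cokernel d
  let π := cokernel.π d
  have hπ : Function.Surjective (S.map π) := (ModuleCat.epi_iff_surjective _).1 inferInstance
  have hq : Module.Finite (X.presheaf.stalk x) (S.obj (FlatMod.freeMod X q) : Type u) := by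
    haveI : Module.Finite (X.presheaf.stalk x) (S.obj (Coh.structureModule X) : Type u) :=
      Module.Finite.equiv ((stalkUnitEquiv x).trans ((stalkToPIso x).app _).toLinearEquiv.symm)
    haveI : Module.Finite (X.presheaf.stalk x)
        (DirectSum (Fin q) fun _ : Fin q => (S.obj (Coh.structureModule X) : Type u)) :=
      Module.Finite.equiv (DirectSum.linearEquivFunOnFintype _ (Fin q) _).symm
    exact Module.Finite.equiv (PreservesCoproduct.iso S (fun _ : Fin q => Coh.structureModule X) ≪≫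
      ModuleCat.coprodIsoDirectSum _).toLinearEquiv.symm
  haveI : Module.Finite (X.presheaf.stalk x) (S.obj C : Type u) :=
    Module.Finite.of_surjective (S.map π).hom hπ
  haveI : Module.Flat (X.presheaf.stalk x) (S.obj C : Type u) := hflat x
  haveI : Module.Free (X.presheaf.stalk x) (S.obj C : Type u) := Module.free_of_flat_of_isLocalRing
  let b := Module.finBasis (X.presheaf.stalk x) (S.obj C : Type u)
  choose v hv using fun i => hπ (b i)
  let Mr : ModuleCat.{u} (X.presheaf.stalk x) :=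
    S.obj (FlatMod.freeMod X (Module.finrank (X.presheaf.stalk x) (S.obj C : Type u)))
  let s : S.obj C ⟶ Mr :=
    ModuleCat.ofHom (b.constr ℕ (M' := (Mr : Type u)) fun i => eGerm (X := X) x i)
  have hs : ∀ i, s (b i) = eGerm x i := fun i =>
    b.constr_basis ℕ (M' := (Mr : Type u)) (fun i => eGerm (X := X) x i) i
  obtain ⟨U₁, hU₁, h₁⟩ := exists_of_germs (FlatMod.freeMod X q) x v
  obtain ⟨U₂, hU₂, h₂⟩ := exists_of_germs (FlatMod.freeMod X
    (Module.finrank (X.presheaf.stalk x) (S.obj C : Type u))) x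
    (fun j : Fin q => s (S.map π (eGerm x j)))
  have hW : x ∈ U₁ ⊓ U₂ := ⟨hU₁, hU₂⟩
  obtain ⟨u, hu⟩ := h₁ _ hW inf_le_left
  obtain ⟨δ, hδ⟩ := h₂ _ hW inf_le_right
  let R := Scheme.Modules.restrictFunctor (U₁ ⊓ U₂).ι
  have hδ' : stalkAt hW δ = S.map π ≫ s := free_stalk_ext hδ
  have hu' : stalkAt hW u ≫ S.map π ≫ s = 𝟙 _ := free_stalk_ext fun i => by
    change s (S.map π (stalkAt hW u (eGerm x i))) = eGerm x i
    rw [hu i, hv i, hs i]
  have e₁ : stalkAt hW (R.map d ≫ δ) = 0 := by
    rw [stalkAt_comp, stalkAt_map, hδ', ← Category.assoc, ← Functor.map_comp, cokernel.condition,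
      Functor.map_zero, zero_comp]
  have e₂ : stalkAt hW (u ≫ δ - 𝟙 _) = 0 := by
    rw [stalkAt_sub, stalkAt_comp, hδ', stalkAt_id, hu', sub_self]
  have e₃ : stalkAt hW (δ ≫ u ≫ R.map π - R.map π) = 0 := by
    rw [stalkAt_sub, stalkAt_comp, stalkAt_comp, stalkAt_map, hδ', sub_eq_zero]
    have hsu : s ≫ stalkAt hW u ≫ S.map π = 𝟙 _ := ModuleCat.hom_ext (b.ext fun i => by
      change S.map π (stalkAt hW u (s (b i))) = b i
      rw [hs i, hu i, hv i])
    rw [Category.assoc, hsu, Category.comp_id]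
  obtain ⟨W₁, hx₁, z₁⟩ := exists_resHom_eq_zero _ hW e₁
  obtain ⟨W₂, hx₂, z₂⟩ := exists_resHom_eq_zero _ hW e₂
  obtain ⟨W₃, hx₃, z₃⟩ := exists_resHom_eq_zero _ hW e₃
  let V := (U₁ ⊓ U₂) ⊓ (W₁ ⊓ W₂ ⊓ W₃)
  have l : V ≤ U₁ ⊓ U₂ := inf_le_left
  have z₁' := z₁ V l (inf_le_right.trans (inf_le_left.trans inf_le_left))
  have z₂' := z₂ V l (inf_le_right.trans (inf_le_left.trans inf_le_right))
  have z₃' := z₃ V l (inf_le_right.trans inf_le_right)
  rw [resHom_comp, resHom_map] at z₁'
  rw [resHom_sub, resHom_comp, resHom_id, sub_eq_zero] at z₂'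
  rw [resHom_sub, resHom_comp, resHom_comp, resHom_map, sub_eq_zero] at z₃'
  let T := Scheme.Modules.restrictFunctor V.ι
  let hc := CokernelCofork.mapIsColimit _ (cokernelIsCokernel d) T
  let e : C.restrict V.ι ⟶ (FlatMod.freeMod X _).restrict V.ι :=
    hc.desc (CokernelCofork.ofπ (resHom l δ) z₁')
  have he : T.map π ≫ e = resHom l δ :=
    hc.fac (CokernelCofork.ofπ (resHom l δ) z₁') WalkingParallelPair.one
  haveI : Epi (T.map π) := inferInstance
  let i₀ : C.restrict V.ι ≅ (FlatMod.freeMod X _).restrict V.ι :=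
    Iso.mk e (resHom l u ≫ T.map π)
      (by
        rw [← cancel_epi (T.map π), reassoc_of% he, z₃']
        exact (Category.comp_id _).symm)
      (by rw [Category.assoc, he, z₂'])
  exact ⟨V, _, ⟨hW, ⟨hx₁, hx₂⟩, hx₃⟩, ⟨i₀ ≪≫
    (Scheme.Modules.restrictFunctorIsoPullback V.ι).app _ ≪≫ pullFreeIso _ _⟩⟩

/-- A flat module with a finite locally free presentation is finite locally free. -/
lemma isFinLocFree_cokernel {A B : X.Modules} (d : A ⟶ B) (hA : FlatMod.IsFinLocFree A)
    (hB : FlatMod.IsFinLocFree B) (hflat : FlatMod.IsFlat (cokernel d)) :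
    FlatMod.IsFinLocFree (cokernel d) := isFinLocFree_of_restrict fun x => by
  obtain ⟨U, p, hx, ⟨eA⟩⟩ := hA x
  obtain ⟨U', q, hx', ⟨eB⟩⟩ := hB x
  let W := U ⊓ U'
  let R := Scheme.Modules.restrictFunctor W.ι
  let fA := restrictFreeIso (W := W) inf_le_left eA
  let fB := restrictFreeIso (W := W) inf_le_right eB
  let d' := fA.inv ≫ R.map d ≫ fB.hom
  let ec : cokernel d' ≅ (cokernel d).restrict W.ι :=
    cokernel.mapIso d' (R.map d) fA.symm fB.symm (by simp [d']) ≪≫
      (PreservesCokernel.iso R d).symm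
  refine ⟨W, ⟨hx, hx'⟩, H23.PullPush.isFinLocFree_of_iso ec fun y => ?_⟩
  have hflat' : FlatMod.IsFlat (cokernel d') :=
    IsFlat.of_iso (((Scheme.Modules.restrictFunctorIsoPullback W.ι).app _).symm ≪≫ ec.symm)
      (isFlat_pullback W.ι hflat)
  obtain ⟨V, r, hy, e⟩ := exists_free_of_flat_stalk d' hflat' y
  exact ⟨V, r, hy, e⟩

end Groth.Agent.KFlatLib
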