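import Mathlib.LinearAlgebra.Matrix.Rank
import Mathlib.LinearAlgebra.Matrix.NonsingularInverse
import Mathlib.LinearAlgebra.Dimension.StrongRankCondition
import Mathlib.Algebra.Homology.ShortComplex.ModuleCat

/-!
# Minors, and dimensions of homology
-/

universe u

open CategoryTheory Module

namespace Groth.Agent.KFlatLib

lemma le_rank_iff_exists_minor {K : Type*} [Field K] {m n r : ℕ} (M : Matrix (Fin m) (Fin n) K) :
    r ≤ M.rank ↔ ∃ (s : Fin r → Fin m) (t : Fin r → Fin n), (M.submatrix s t).det ≠ 0 := by
  classical
  constructor
  · intro h
    obtain ⟨f, hf, -, hli⟩ := Submodule.exists_fun_fin_finrank_span_eq K (Set.range M.row)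
    choose s hs using hf
    let e : Fin r → Fin (finrank K (Submodule.span K (Set.range M.row))) :=
      Fin.castLE (h.trans_eq M.rank_eq_finrank_span_row)
    let N := M.submatrix (fun i => s (e i)) id
    have hN : LinearIndependent K N.row := by
      have h0 : N.row = f ∘ e := funext fun i => hs (e i)
      rw [h0]
      exact hli.comp e (Fin.castLE_injective _)
    have hNT : finrank K (Submodule.span K (Set.range N.transpose.row)) = r := by
      rw [← Matrix.rank_eq_finrank_span_row, Matrix.rank_transpose, hN.rank_matrix]
      simp
    obtain ⟨g, hg, -, hli'⟩ := Submodule.exists_fun_fin_finrank_span_eq K (Set.range N.transpose.row)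
    choose t ht using hg
    let e' : Fin r → Fin (finrank K (Submodule.span K (Set.range N.transpose.row))) :=
      Fin.cast hNT.symm
    refine ⟨fun i => s (e i), fun i => t (e' i), ?_⟩
    have hcols : LinearIndependent K (M.submatrix (fun i => s (e i)) (fun i => t (e' i))).col := by
      have h0 : (M.submatrix (fun i => s (e i)) (fun i => t (e' i))).col = g ∘ e' :=
        funext fun i => ht (e' i)
      rw [h0]
      exact hli'.comp e' (Fin.cast_injective _)
    exact ((Matrix.isUnit_iff_isUnit_det _).1 (Matrix.linearIndependent_cols_iff_isUnit.1 hcols)).ne_zero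
  · rintro ⟨s, t, h⟩
    refine le_trans ?_ (M.rank_submatrix_le s t)
    rw [Matrix.rank_of_det_ne_zero h]
    simp

/-- Rank-nullity for a short complex of finite-dimensional spaces. -/
lemma finrank_homology {K : Type u} [Field K] (S : ShortComplex (ModuleCat.{u} K))
    [FiniteDimensional K S.X₂] :
    finrank K S.homology + finrank K (LinearMap.range S.f.hom) +
      finrank K (LinearMap.range S.g.hom) = finrank K S.X₂ := by
  have h1 := S.g.hom.finrank_range_add_finrank_ker
  have h2 := Submodule.finrank_quotient_add_finrank (LinearMap.range S.moduleCatToCycles)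
  have h3 : finrank K (LinearMap.range S.moduleCatToCycles) =
      finrank K (LinearMap.range S.f.hom) := by
    rw [← Submodule.finrank_map_subtype_eq, ← LinearMap.range_comp]
    rfl
  have h4 : finrank K S.homology =
      finrank K (LinearMap.ker S.g.hom ⧸ LinearMap.range S.moduleCatToCycles) :=
    S.moduleCatHomologyIso.toLinearEquiv.finrank_eq
  omega

end Groth.Agent.KFlatLib
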