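import Groth.Agent.KFlatLib.Perfect.Top
import Groth.Agent.KFlatLib.Scheme.PullTensorCx

/-!
# Tor amplitude is local; perfect amplitude
-/

set_option linter.style.haveILetI false

universe u

open CategoryTheory CategoryTheory.Limits AlgebraicGeometry CategoryTheory.Pretriangulated

attribute [local instance] HasDerivedCategory.standard

namespace Groth.Agent.KFlatLib

variable {X U : Scheme.{u}}

/-- Pullback commutes with tensoring by a module. -/
noncomputable def pullTensorRightIso (f : U ⟶ X) (G : X.Modules) :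
    DCoh.tensorRightMod G ⋙ Scheme.Modules.pullback f ≅
      Scheme.Modules.pullback f ⋙ DCoh.tensorRightMod ((Scheme.Modules.pullback f).obj G) :=
  NatIso.ofComponents (fun M => ((pullTensorBiIso f).app M).app G)
    fun φ => congrArg (fun t => t.app G) ((pullTensorBiIso f).hom.naturality φ)

/-- A stalk of a restriction is a stalk. -/
lemma isZero_stalk_of_restrict (j : U ⟶ X) [IsOpenImmersion j] {M : X.Modules} (u' : U)
    (h : IsZero ((DerSch.stalkFunctor U u').obj (M.restrict j))) :
    IsZero ((DerSch.stalkFunctor X (j.base u')).obj M) := by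
  haveI := ModuleCat.subsingleton_of_isZero h
  let e := ((Scheme.Modules.restrictStalkNatIso j u').app M).addCommGroupIsoToAddEquiv
  haveI hs : Subsingleton ((DerSch.stalkFunctor X (j.base u')).obj M : Type u) :=
    e.toEquiv.symm.injective.subsingleton (β := ((DerSch.stalkFunctor U u').obj (M.restrict j) : Type u))
  exact ModuleCat.isZero_of_subsingleton _

/-- Tor amplitude may be checked locally. -/
lemma torAmplitude_of_local {a b : ℤ} (E : DCoh.D X)
    (h : ∀ x : X, ∃ (U : Scheme.{u}) (j : U ⟶ X) (_ : IsOpenImmersion j),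
      x ∈ Set.range j.base ∧ DCoh.HasTorAmplitudeIn a b ((rho j).obj E)) :
    DCoh.HasTorAmplitudeIn a b E := fun G _ i hi => by
  let R := repK E
  have hR : DCoh.IsKFlat R := isKFlat_repK E
  refine IsZero.of_iso ?_ ((DerivedCategory.homologyFunctor X.Modules i).mapIso
    ((DCoh.LTensorMod G).mapIso (repKIso E).symm) ≪≫ hdLTensorModIso G hR i)
  refine isZero_of_stalk _ fun x => ?_
  obtain ⟨U, j, _, ⟨u', rfl⟩, hU⟩ := h x
  haveI := hasLTensorMod ((Scheme.Modules.pullback j).obj G)
  have hz := (hU ((Scheme.Modules.pullback j).obj G) i hi).of_iso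
    ((hdLTensorModIso _ (isKFlat_restrict j hR) i).symm ≪≫
      (DerivedCategory.homologyFunctor U.Modules i).mapIso ((DCoh.LTensorMod _).mapIso
        (((rhoQ j).app R).symm ≪≫ (rho j).mapIso (repKIso E))))
  let H := ((tensorModCx G).obj R).homology i
  have c₁ : (pullCx j).obj ((tensorModCx G).obj R) ≅
      (tensorModCx ((Scheme.Modules.pullback j).obj G)).obj ((pullCx j).obj R) :=
    (NatIso.mapHomologicalComplex (pullTensorRightIso j G) (ComplexShape.up ℤ)).app R
  have e : H.restrict j ≅
      ((tensorModCx ((Scheme.Modules.pullback j).obj G)).obj ((rCx j).obj R)).homology i :=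
    (((((tensorModCx G).obj R)).sc i).mapHomologyIso (Scheme.Modules.restrictFunctor j)).symm ≪≫
      (HomologicalComplex.homologyFunctor U.Modules _ i).mapIso
        (((restrictPullCxIso j).app _) ≪≫
          c₁ ≪≫
          (tensorModCx _).mapIso ((restrictPullCxIso j).app R).symm)
  have h0 : IsZero (H.restrict j) := hz.of_iso e
  exact isZero_stalk_of_restrict j u' ((DerSch.stalkFunctor U u').map_isZero h0)

end Groth.Agent.KFlatLib

namespace Groth.Agent.KFlatLib

variable {X : Scheme.{u}}

lemma perfectAmplitude_iff (E : DCoh.D X) (m n : ℤ) (hmn : m ≤ n) :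
    (∀ x : X, ∃ (U : Scheme.{u}) (j : U ⟶ X) (_ : IsOpenImmersion j), x ∈ Set.range j.base ∧
      ∃ P : CochainComplex U.Modules ℤ, DCoh.VanishesOutside P m n ∧
        (∀ i, FlatMod.IsFinLocFree (P.X i)) ∧
        Nonempty (DerivedCategory.Q.obj P ≅ (rho j).obj E)) ↔
      LocPC (m - 1) E ∧ DCoh.HasFlatAmplitudeIn m n E := by
  constructor
  · intro h
    refine ⟨LocSP.locPC (fun x => ?_) _, flatAmplitude_of_torAmplitude hasLTensorMod hmn
      (torAmplitude_of_local E fun x => ?_)⟩
    · obtain ⟨U, j, _, hx, P, hv, hf, he⟩ := h x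
      exact ⟨U, j, inferInstance, hx, P, ⟨⟨m, n, hv⟩, hf⟩, he⟩
    · obtain ⟨U, j, _, hx, P, hv, hf, he⟩ := h x
      exact ⟨U, j, inferInstance, hx, torAmplitude_of_flatAmplitude
        ⟨P, hv, fun i => isFlat_of_isFinLocFree (hf i), he⟩⟩
  · rintro ⟨hpc, F, hv, hflat, ⟨e⟩⟩ x
    obtain ⟨U, j, _, hx, P, α, hP, hα⟩ := hpc x
    let c : (rho j).obj E ≅ DerivedCategory.Q.obj ((rCx j).obj F) :=
      (rho j).mapIso e.symm ≪≫ (rhoQ j).app F
    have hv' : DCoh.VanishesOutside ((rCx j).obj F) m n :=
      fun i hi => (Scheme.Modules.restrictFunctor j).map_isZero (hv i hi)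
    obtain ⟨P₁, hP₁, hlo, ⟨e₁⟩⟩ := exists_perfect_of_flat_pc (F := (rCx j).obj F) hmn hP hv'
      (fun i => IsFlat.of_iso ((Scheme.Modules.restrictFunctorIsoPullback j).app _).symm
        (isFlat_pullback j (hflat i)))
      (α ≫ c.hom) (hα.comp (isPcMap_of_isIso _ _))
    obtain ⟨a, b, hab⟩ := hP₁.1
    obtain ⟨P₂, hP₂, hhi, hlow, ⟨e₂⟩⟩ := exists_cutoff n (max b n - n).toNat P₁ hP₁
      (fun i hi => hab i (Or.inr (by omega))) (fun i hi =>
        (ShortComplex.isZero_homology_of_isZero_X₂ _ (hv' i (Or.inr hi))).of_iso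
          (((DerivedCategory.homologyFunctorFactors _ i).app P₁).symm ≪≫
            (DerivedCategory.homologyFunctor U.Modules i).mapIso e₁ ≪≫
            (DerivedCategory.homologyFunctorFactors _ i).app _))
    refine ⟨U, j, inferInstance, hx, P₂, ?_, hP₂.2, ⟨e₂ ≪≫ e₁ ≪≫ c.symm⟩⟩
    rintro i (hi | hi)
    · exact hlow m hmn hlo i hi
    · exact hhi i hi

end Groth.Agent.KFlatLib
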