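import Groth.Agent.KFlatLib.Perfect.Tensor
import Mathlib.Algebra.Homology.DerivedCategory.Fractions
import Mathlib.CategoryTheory.Triangulated.Pretriangulated

/-!
# Perfect and pseudo-coherent objects: pullback and tensor products
-/

set_option linter.style.haveILetI false

universe v u

open CategoryTheory CategoryTheory.Limits AlgebraicGeometry CategoryTheory.Pretriangulated

attribute [local instance] HasDerivedCategory.standard

namespace Groth.Agent.KFlatLib

section Abelian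

variable {C : Type*} [Category C] [Abelian C]

/-- A map inducing isomorphisms in degrees above `m` and an epimorphism in degree `m`. -/
def IsPcMap (m : ℤ) {A B : DerivedCategory C} (α : A ⟶ B) : Prop :=
  (∀ i : ℤ, m < i → IsIso ((DerivedCategory.homologyFunctor C i).map α)) ∧
    Epi ((DerivedCategory.homologyFunctor C m).map α)

lemma IsPcMap.comp_iso {m : ℤ} {A' A B B' : DerivedCategory C} (e : A' ⟶ A) [IsIso e]
    {α : A ⟶ B} (h : IsPcMap m α) (e' : B ⟶ B') [IsIso e'] : IsPcMap m (e ≫ α ≫ e') := by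
  refine ⟨fun i hi => ?_, ?_⟩
  · haveI := h.1 i hi
    rw [Functor.map_comp, Functor.map_comp]
    infer_instance
  · haveI := h.2
    rw [Functor.map_comp, Functor.map_comp]
    exact epi_comp _ _

lemma isPcMap_comp_iso_iff {m : ℤ} {A' A B B' : DerivedCategory C} (e : A' ⟶ A) [IsIso e]
    (α : A ⟶ B) (e' : B ⟶ B') [IsIso e'] : IsPcMap m (e ≫ α ≫ e') ↔ IsPcMap m α :=
  ⟨fun h => by simpa using h.comp_iso (inv e) (inv e'), fun h => h.comp_iso e e'⟩

/-- The cone criterion. -/
lemma isPcMap_iff_cone (m : ℤ) {F G : CochainComplex C ℤ} (φ : F ⟶ G) :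
    IsPcMap m (DerivedCategory.Q.map φ) ↔
      ∀ i, m ≤ i → IsZero ((CochainComplex.mappingCone φ).homology i) := by
  let T : Triangle (DerivedCategory C) :=
    DerivedCategory.Q.mapTriangle.obj (CochainComplex.mappingCone.triangle φ)
  have hT : T ∈ distinguishedTriangles :=
    (DerivedCategory.mem_distTriang_iff T).2 ⟨_, _, φ, ⟨Iso.refl _⟩⟩
  let H := DerivedCategory.homologyFunctor C
  constructor
  · intro h i hi
    haveI : Epi ((H i).map T.mor₁) := by
      rcases eq_or_lt_of_le hi with h' | h'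
      · subst h'; exact h.2
      · haveI := h.1 i h'; exact inferInstanceAs (Epi ((H i).map (DerivedCategory.Q.map φ)))
    haveI : Mono ((H (i + 1)).map T.mor₁) := by
      haveI := h.1 (i + 1) (by omega)
      exact inferInstanceAs (Mono ((H (i + 1)).map (DerivedCategory.Q.map φ)))
    refine IsZero.of_iso ?_ ((DerivedCategory.homologyFunctorFactors C i).app _).symm
    exact (DerivedCategory.HomologySequence.exact₃ T hT i (i + 1) rfl).isZero_X₂
      ((DerivedCategory.HomologySequence.epi_homologyMap_mor₁_iff T hT i).1 inferInstance)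
      ((DerivedCategory.HomologySequence.mono_homologyMap_mor₁_iff T hT i (i + 1) rfl).1
        inferInstance)
  · intro h
    have hz : ∀ i, m ≤ i → IsZero ((H i).obj T.obj₃) := fun i hi =>
      (h i hi).of_iso ((DerivedCategory.homologyFunctorFactors C i).app _)
    have he : ∀ i, m ≤ i → Epi ((H i).map (DerivedCategory.Q.map φ)) := fun i hi =>
      (DerivedCategory.HomologySequence.epi_homologyMap_mor₁_iff T hT i).2 ((hz i hi).eq_of_tgt _ _)
    refine ⟨fun i hi => ?_, he m le_rfl⟩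
    haveI := he i hi.le
    haveI : Mono ((H i).map (DerivedCategory.Q.map φ)) :=
      (DerivedCategory.HomologySequence.mono_homologyMap_mor₁_iff T hT (i - 1) i (by omega)).2
        ((hz (i - 1) (by omega)).eq_of_src _ _)
    exact isIso_of_mono_of_epi _

end Abelian

variable {X Y : Scheme.{u}}

/-- Isomorphic complexes in `D(X)` stay isomorphic on an open subscheme. -/
noncomputable def restrictQIso (j : X ⟶ Y) [IsOpenImmersion j] {F G : CochainComplex Y.Modules ℤ}
    (e : DCoh.toD Y F ≅ DCoh.toD Y G) :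
    DCoh.toD X (((Scheme.Modules.restrictFunctor j).mapHomologicalComplex _).obj F) ≅
      DCoh.toD X (((Scheme.Modules.restrictFunctor j).mapHomologicalComplex _).obj G) :=
  (((Scheme.Modules.restrictFunctor j).mapDerivedCategoryFactors).app F).symm ≪≫
    (Scheme.Modules.restrictFunctor j).mapDerivedCategory.mapIso e ≪≫
    ((Scheme.Modules.restrictFunctor j).mapDerivedCategoryFactors).app G

/-- Restriction of complexes is pullback of complexes. -/
noncomputable def restrictPullCxIso (j : X ⟶ Y) [IsOpenImmersion j] :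
    (Scheme.Modules.restrictFunctor j).mapHomologicalComplex (ComplexShape.up ℤ) ≅ pullCx j :=
  NatIso.mapHomologicalComplex (Scheme.Modules.restrictFunctorIsoPullback j) _

lemma isKFlat_restrict (j : X ⟶ Y) [IsOpenImmersion j] {R : CochainComplex Y.Modules ℤ}
    (hR : DCoh.IsKFlat R) :
    DCoh.IsKFlat (((Scheme.Modules.restrictFunctor j).mapHomologicalComplex _).obj R) :=
  KFlat.of_iso ((restrictPullCxIso j).app R).symm (isKFlat_pullback j hR)

/-- Restriction of a pullback. -/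
noncomputable def restrictPullIso (f : X ⟶ Y) (V : Y.Opens) (R : CochainComplex Y.Modules ℤ) :
    (DCoh.restrictCx (f ⁻¹ᵁ V)).obj ((pullCx f).obj R) ≅
      (pullCx (f ∣_ V)).obj ((DCoh.restrictCx V).obj R) :=
  ((NatIso.mapHomologicalComplex (H23.PullPush.pullRestrictIso f V) (ComplexShape.up ℤ)).app R).symm

/-- A K-flat representative. -/
noncomputable def repK (K : DCoh.D X) : CochainComplex X.Modules ℤ :=
  (kRes X).obj (DerivedCategory.Q.objPreimage K)

/-- The representative is one. -/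
noncomputable def repKIso (K : DCoh.D X) : DCoh.toD X (repK K) ≅ K :=
  (resQIso X).app _ ≪≫ DerivedCategory.Q.objObjPreimageIso K

lemma isKFlat_repK (K : DCoh.D X) : DCoh.IsKFlat (repK K) := isKFlat_kRes _

/-- The derived pullback on a representative. -/
noncomputable def lpullRepIso (f : X ⟶ Y) [DCoh.HasLpull f] (E : DCoh.D Y) :
    DCoh.toD X ((pullCx f).obj (repK E)) ≅ (DCoh.Lpull f).obj E :=
  (lpullIso f (isKFlat_repK E)).symm ≪≫ (DCoh.Lpull f).mapIso (repKIso E)

/-- Perfectness can be checked on one representative. -/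
lemma isPerfect_of_rep {K : DCoh.D X} {F₀ : CochainComplex X.Modules ℤ} (e₀ : DCoh.toD X F₀ ≅ K)
    (h : ∀ x : X, ∃ V : X.Opens, x ∈ V ∧ ∃ P : CochainComplex (V : Scheme.{u}).Modules ℤ,
      DCoh.IsStrictlyPerfect P ∧ Nonempty (DCoh.toD _ ((DCoh.restrictCx V).obj F₀) ≅ DCoh.toD _ P)) :
    DCoh.IsPerfect K := fun x => by
  obtain ⟨V, hx, P, hP, ⟨e⟩⟩ := h x
  exact ⟨V, hx, fun F ⟨eF⟩ => ⟨P, hP, ⟨restrictQIso V.ι (eF ≪≫ e₀.symm) ≪≫ e⟩⟩⟩

lemma isPerfect_lpull (f : X ⟶ Y) [DCoh.HasLpull f] {E : DCoh.D Y} (hE : DCoh.IsPerfect E) :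
    DCoh.IsPerfect ((DCoh.Lpull f).obj E) :=
  isPerfect_of_rep (lpullRepIso f E) fun x => by
    obtain ⟨V, hx, hV⟩ := hE (f.base x)
    obtain ⟨P, hP, ⟨e⟩⟩ := hV (repK E) ⟨repKIso E⟩
    haveI := hasLpull (f ∣_ V)
    exact ⟨f ⁻¹ᵁ V, hx, _, isStrictlyPerfect_pullback (f ∣_ V) hP,
      ⟨DerivedCategory.Q.mapIso (restrictPullIso f V (repK E)) ≪≫
        (lpullIso (f ∣_ V) (isKFlat_restrict V.ι (isKFlat_repK E))).symm ≪≫
        (DCoh.Lpull (f ∣_ V)).mapIso e ≪≫ lpullIso _ (isKFlat_of_isStrictlyPerfect hP)⟩⟩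

/-- Tensoring with K-flat complexes respects isomorphisms in `D(X)`. -/
noncomputable def tensorQIso {R R' L L' : CochainComplex X.Modules ℤ} (hR : DCoh.IsKFlat R)
    (hR' : DCoh.IsKFlat R') (hL : DCoh.IsKFlat L) (hL' : DCoh.IsKFlat L')
    (e : DCoh.toD X R ≅ DCoh.toD X R') (e' : DCoh.toD X L ≅ DCoh.toD X L') :
    DCoh.toD X ((DCoh.tensorCx.obj R).obj L) ≅ DCoh.toD X ((DCoh.tensorCx.obj R').obj L') :=
  haveI := hasLTensorCx L
  haveI := hasLTensorCx R'
  ((ltensorCxIso L hR).symm ≪≫ (DCoh.LTensorCx L).mapIso e ≪≫ ltensorCxIso L hR') ≪≫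
    DerivedCategory.Q.mapIso ((symmIso (tensorBiFlipIso X) R').app L).symm ≪≫
    ((ltensorCxIso R' hL).symm ≪≫ (DCoh.LTensorCx R').mapIso e' ≪≫ ltensorCxIso R' hL') ≪≫
    DerivedCategory.Q.mapIso ((symmIso (tensorBiFlipIso X) R').app L')

lemma isPerfect_ltensor (L : CochainComplex X.Modules ℤ) (hL : DCoh.IsKFlat L)
    (hLp : DCoh.IsPerfect (DerivedCategory.Q.obj L)) [DCoh.HasLTensorCx L] {K : DCoh.D X}
    (hK : DCoh.IsPerfect K) : DCoh.IsPerfect ((DCoh.LTensorCx L).obj K) :=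
  isPerfect_of_rep ((ltensorCxIso L (isKFlat_repK K)).symm ≪≫
      (DCoh.LTensorCx L).mapIso (repKIso K)) fun x => by
    obtain ⟨V, hx, hV⟩ := hK x
    obtain ⟨P, hP, ⟨e⟩⟩ := hV (repK K) ⟨repKIso K⟩
    obtain ⟨V', hx', hV'⟩ := hLp x
    obtain ⟨P', hP', ⟨e'⟩⟩ := hV' L ⟨Iso.refl _⟩
    let W := V ⊓ V'
    have key : ∀ {V : X.Opens} (h : W ≤ V) (R : CochainComplex X.Modules ℤ)
        (P : CochainComplex (V : Scheme.{u}).Modules ℤ),
        Nonempty (DCoh.toD _ ((DCoh.restrictCx V).obj R) ≅ DCoh.toD _ P) →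
        Nonempty (DCoh.toD _ ((pullCx W.ι).obj R) ≅ DCoh.toD _ ((pullCx (X.homOfLE h)).obj P)) :=
      fun {V} h R P ⟨e⟩ => ⟨DerivedCategory.Q.mapIso
        (((NatIso.mapHomologicalComplex (Scheme.Modules.pullbackCongr (X.homOfLE_ι h).symm) _).app R)
          ≪≫ ((pullCxCompIso (X.homOfLE h) V.ι).app R).symm ≪≫
            (pullCx (X.homOfLE h)).mapIso ((restrictPullCxIso V.ι).app R).symm ≪≫
            ((restrictPullCxIso (X.homOfLE h)).app _).symm) ≪≫
        restrictQIso (X.homOfLE h) e ≪≫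
        DerivedCategory.Q.mapIso ((restrictPullCxIso (X.homOfLE h)).app P)⟩
    obtain ⟨e₁⟩ := key inf_le_left (repK K) P ⟨e⟩
    obtain ⟨e₂⟩ := key inf_le_right L P' ⟨e'⟩
    have h₁ := isStrictlyPerfect_pullback (X.homOfLE (inf_le_left : W ≤ V)) hP
    have h₂ := isStrictlyPerfect_pullback (X.homOfLE (inf_le_right : W ≤ V')) hP'
    exact ⟨W, ⟨hx, hx'⟩, _, isStrictlyPerfect_tensorCx h₁ h₂,
      ⟨DerivedCategory.Q.mapIso ((restrictPullCxIso W.ι).app _ ≪≫
          (pullTensorCxIso W.ι (repK K) L).symm) ≪≫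
        tensorQIso (isKFlat_pullback _ (isKFlat_repK K)) (isKFlat_of_isStrictlyPerfect h₁)
          (isKFlat_pullback _ hL) (isKFlat_of_isStrictlyPerfect h₂) e₁ e₂⟩⟩

/-- `Lf^*` preserves maps which are isomorphisms above `m` and epi at `m`. -/
lemma isPcMap_lpull (f : X ⟶ Y) [DCoh.HasLpull f] {m : ℤ} {E G : CochainComplex Y.Modules ℤ}
    (α : DCoh.toD Y E ⟶ DCoh.toD Y G) (h : IsPcMap m α) :
    IsPcMap m ((DCoh.Lpull f).map α) := by
  obtain ⟨E', s, hs, φ, rfl⟩ := DerivedCategory.right_fac α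
  let φ' := (kRes Y).map φ
  have hfac : DerivedCategory.Q.map φ = (resQIso Y).inv.app E' ≫ DerivedCategory.Q.map φ' ≫
      (resQIso Y).hom.app G := by
    have := (resQIso Y).hom.naturality φ
    dsimp at this
    rw [this, Iso.inv_hom_id_app_assoc]
  have h' : IsPcMap m (DerivedCategory.Q.map φ') := by
    rw [hfac, ← Category.assoc] at h
    exact (isPcMap_comp_iso_iff _ _ _).1 h
  obtain ⟨B, ψ, hψ, hflat, hz⟩ :=
    (flatCover Y).exists_bounded_resolution (CochainComplex.mappingCone φ') (m - 1)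
      fun i hi => (isPcMap_iff_cone m φ').1 h' i (by omega)
  haveI : CochainComplex.IsStrictlyLE B (m - 1) :=
    (CochainComplex.isStrictlyLE_iff B (m - 1)).2 fun i hi => hz i hi
  haveI := hψ
  haveI : QuasiIso ((pullCx f).map ψ) :=
    quasiIso_pullback f ψ (isKFlat_of_isStrictlyLE B (m - 1) hflat)
      (kFlat_cone (T := DCoh.tensorBi) φ' (isKFlat_kRes E') (isKFlat_kRes G))
  have hpull : IsPcMap m (DerivedCategory.Q.map ((pullCx f).map φ')) :=
    (isPcMap_iff_cone m _).2 fun i hi =>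
      IsZero.of_iso (IsZero.of_iso (ShortComplex.isZero_homology_of_isZero_X₂ _
        ((Scheme.Modules.pullback f).map_isZero (hz i (by omega))))
          (isoOfQuasiIsoAt ((pullCx f).map ψ) i).symm)
        ((HomologicalComplex.homologyFunctor X.Modules _ i).mapIso
          (CochainComplex.mappingCone.mapHomologicalComplexIso φ' (Scheme.Modules.pullback f))).symm
  have hnat := (lpullComparison f).naturality φ'
  haveI := isIso_lpullComparison f (isKFlat_kRes E')
  haveI := isIso_lpullComparison f (isKFlat_kRes G)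
  have hL : (DCoh.Lpull f).map (DerivedCategory.Q.map φ') = (lpullComparison f).app _ ≫
      DerivedCategory.Q.map ((pullCx f).map φ') ≫ inv ((lpullComparison f).app _) := by
    rw [← Category.assoc, IsIso.eq_comp_inv]
    exact hnat
  rw [hfac, ← Category.assoc, Functor.map_comp, Functor.map_comp, Functor.map_comp, hL]
  exact (hpull.comp_iso _ _).comp_iso _ _

lemma isPseudoCoherentD_lpull (f : X ⟶ Y) [DCoh.HasLpull f] {m : ℤ} {E : DCoh.D Y}
    (hE : DCoh.IsPseudoCoherentD m E) : DCoh.IsPseudoCoherentD m ((DCoh.Lpull f).obj E) :=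
  fun x => by
    obtain ⟨V, hx, hV⟩ := hE (f.base x)
    obtain ⟨P, α, hP, hα⟩ := hV (repK E) ⟨repKIso E⟩
    haveI := hasLpull (f ∣_ V)
    refine ⟨f ⁻¹ᵁ V, hx, fun F ⟨eF⟩ => ?_⟩
    let e' := (lpullIso (f ∣_ V) (isKFlat_restrict V.ι (isKFlat_repK E))) ≪≫
      DerivedCategory.Q.mapIso (restrictPullIso f V (repK E)).symm ≪≫
      restrictQIso (f ⁻¹ᵁ V).ι (lpullRepIso f E ≪≫ eF.symm)
    exact ⟨_, (lpullIso (f ∣_ V) (isKFlat_of_isStrictlyPerfect hP)).inv ≫
        (DCoh.Lpull (f ∣_ V)).map α ≫ e'.hom,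
      isStrictlyPerfect_pullback (f ∣_ V) hP,
      (isPcMap_lpull (f ∣_ V) α hα).comp_iso _ _⟩

end Groth.Agent.KFlatLib
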