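import Groth.Agent.KFlatLib.Perfect.Retract
import Groth.Agent.KFlatLib.Perfect.Spread
import Groth.Agent.KFlatLib.Scheme.Flatness
import Mathlib.Algebra.Homology.DerivedCategory.ShortExact
import Mathlib.Algebra.Homology.Embedding.CochainComplex

/-!
# Pseudo-coherent and finite tor dimension means perfect
-/

set_option linter.style.haveILetI false

universe u

open CategoryTheory CategoryTheory.Limits AlgebraicGeometry CategoryTheory.Pretriangulated

attribute [local instance] HasDerivedCategory.standard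

namespace Groth.Agent.KFlatLib

variable {X : Scheme.{u}}

/-- A module with vanishing first Tor, placed in degree `a`, is flat. -/
lemma isFlat_of_isZero_tor_single (F : X.Modules) (a : ℤ)
    (h : ∀ (G : X.Modules) [DCoh.HasLTensorMod G],
      IsZero (DCoh.HD ((DCoh.LTensorMod G).obj (DCoh.toD X
        ((HomologicalComplex.single X.Modules (ComplexShape.up ℤ) a).obj F))) (a - 1))) :
    FlatMod.IsFlat F := by
  let K := (HomologicalComplex.single X.Modules (ComplexShape.up ℤ) a).obj F
  obtain ⟨P, ψ, hψ, hflat, hz⟩ := (flatCover X).exists_bounded_resolution K a (fun m hm =>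
    ShortComplex.isZero_homology_of_isZero_X₂ _
      (HomologicalComplex.isZero_single_obj_X (ComplexShape.up ℤ) a F m (by omega)))
  haveI : CochainComplex.IsStrictlyLE P a :=
    (CochainComplex.isStrictlyLE_iff P a).2 fun i hi => hz i hi
  haveI := hψ
  let e : DCoh.toD X P ≅ DCoh.toD X K :=
    @asIso _ _ _ _ (DerivedCategory.Q.map ψ) (isIso_Q_map ψ hψ)
  have hc := isFlat_cokernel_of_isZero hasLTensorMod (isKFlat_of_isStrictlyLE P a hflat) hflat a
    @fun G _ => (h G).of_iso ((DerivedCategory.homologyFunctor X.Modules _).mapIso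
      ((DCoh.LTensorMod G).mapIso e))
  haveI : IsIso (P.homologyι a) :=
    P.isIso_homologyι a (a + 1) (by simp) ((hz (a + 1) (by omega)).eq_of_tgt _ _)
  exact IsFlat.of_iso (IsColimit.coconePointUniqueUpToIso (cokernelIsCokernel _)
      (P.opcyclesIsCokernel (a - 1) a (by simp)) ≪≫ (asIso (P.homologyι a)).symm ≪≫
    asIso (HomologicalComplex.homologyMap ψ a) ≪≫
    HomologicalComplex.singleObjHomologySelfIso _ a F) hc

/-- The lowest term of a complex of tor amplitude `≥ a` is flat if the other ones are. -/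
lemma isFlat_lowest {P : CochainComplex X.Modules ℤ} {a b : ℤ}
    (hz : DCoh.VanishesOutside P a b) (hflat : ∀ i, a < i → FlatMod.IsFlat (P.X i))
    (h : ∀ (G : X.Modules) [DCoh.HasLTensorMod G],
      IsZero (DCoh.HD ((DCoh.LTensorMod G).obj (DCoh.toD X P)) (a - 1))) :
    FlatMod.IsFlat (P.X a) := by
  let P'' := stupidGE P (a + 1)
  let g : P ⟶ (HomologicalComplex.single X.Modules (ComplexShape.up ℤ) a).obj (P.X a) :=
    HomologicalComplex.mkHomToSingle (𝟙 _) (fun i hi => by
      have hi' : i + 1 = a := hi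
      rw [(hz i (Or.inl (by omega))).eq_of_src (P.d i a) 0, zero_comp])
  have w : stupidGEι P (a + 1) ≫ g = 0 := by
    refine HomologicalComplex.Hom.ext (funext fun i => ?_)
    rcases eq_or_ne i a with h' | h'
    · subst h'
      exact (isZero_stupidGE P (i + 1) (by omega)).eq_of_src _ _
    · exact (HomologicalComplex.isZero_single_obj_X (ComplexShape.up ℤ) a _ i h').eq_of_tgt _ _
  let S := ShortComplex.mk _ _ w
  have hS : S.ShortExact := HomologicalComplex.shortExact_of_degreewise_shortExact _ fun i => by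
    rcases eq_or_ne i a with h' | h'
    · subst h'
      have h0 : IsZero (S.X₁.X i) := isZero_stupidGE P (i + 1) (by omega)
      haveI : IsIso (g.f i) := by
        simp only [g, HomologicalComplex.mkHomToSingle_f]
        infer_instance
      haveI : Mono ((S.map (HomologicalComplex.eval X.Modules (ComplexShape.up ℤ) i)).f) :=
        ⟨fun u v _ => h0.eq_of_tgt u v⟩
      haveI : Epi ((S.map (HomologicalComplex.eval X.Modules (ComplexShape.up ℤ) i)).g) :=
        inferInstanceAs (Epi (g.f i))
      refine ShortComplex.ShortExact.mk' ?_ inferInstance inferInstance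
      exact (ShortComplex.exact_iff_mono _ (h0.eq_of_src _ _)).2 (inferInstanceAs (Mono (g.f i)))
    · have h0 : IsZero (S.X₃.X i) :=
        HomologicalComplex.isZero_single_obj_X (ComplexShape.up ℤ) a _ i h'
      haveI : IsIso ((stupidGEι P (a + 1)).f i) := by
        by_cases hi : a + 1 ≤ i
        · exact isIso_stupidι P (a + 1) hi
        · exact ⟨0, (isZero_stupidGE P (a + 1) (by omega)).eq_of_src _ _,
            (hz i (Or.inl (by omega))).eq_of_src _ _⟩
      haveI : Mono ((S.map (HomologicalComplex.eval X.Modules (ComplexShape.up ℤ) i)).f) :=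
        inferInstanceAs (Mono ((stupidGEι P (a + 1)).f i))
      haveI : Epi ((S.map (HomologicalComplex.eval X.Modules (ComplexShape.up ℤ) i)).g) :=
        ⟨fun u v _ => h0.eq_of_src u v⟩
      refine ShortComplex.ShortExact.mk' ?_ inferInstance inferInstance
      exact (ShortComplex.exact_iff_epi _ (h0.eq_of_tgt _ _)).2
        (inferInstanceAs (Epi ((stupidGEι P (a + 1)).f i)))
  have hamp : DCoh.HasFlatAmplitudeIn (a + 1) b (DCoh.toD X P'') := by
    refine ⟨P'', fun i hi => ?_, fun i => ?_, ⟨Iso.refl _⟩⟩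
    · by_cases hn : a + 1 ≤ i
      · exact (hz i (by omega)).of_iso (eqToIso (stupidX_eq P _ hn))
      · exact isZero_stupidX P _ hn
    · by_cases hn : a + 1 ≤ i
      · exact IsFlat.of_iso (eqToIso (stupidX_eq P _ hn)).symm (hflat i (by omega))
      · exact IsFlat.of_isZero (isZero_stupidX P _ hn)
  refine isFlat_of_isZero_tor_single (P.X a) a @fun G _ => ?_
  refine (isZero_hd_ltensorMod_triangle (DerivedCategory.triangleOfSES hS)
    (DerivedCategory.triangleOfSES_distinguished hS) G (a - 1)).1 (h G) ?_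
  exact torAmplitude_of_flatAmplitude hamp G _ (Or.inl (by omega))

/-- A strictly perfect complex mapping pseudo-coherently to a flat complex in `[a, b]` has a
strictly perfect truncation isomorphic to it. -/
lemma exists_perfect_of_flat_pc {P F : CochainComplex X.Modules ℤ} {a b : ℤ} (hab : a ≤ b)
    (hP : DCoh.IsStrictlyPerfect P) (hF : DCoh.VanishesOutside F a b)
    (hflat : ∀ i, FlatMod.IsFlat (F.X i))
    (α : DerivedCategory.Q.obj P ⟶ DerivedCategory.Q.obj F) (hα : IsPcMap (a - 1) α) :
    ∃ P' : CochainComplex X.Modules ℤ, DCoh.IsStrictlyPerfect P' ∧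
      (∀ i, i < a → IsZero (P'.X i)) ∧
      Nonempty (DerivedCategory.Q.obj P' ≅ DerivedCategory.Q.obj F) := by
  obtain ⟨F', g, s, hs, hfac⟩ := DerivedCategory.left_fac α
  haveI := hs
  let H := DerivedCategory.homologyFunctor X.Modules
  have hg : IsPcMap (a - 1) (DerivedCategory.Q.map g) := by
    have : DerivedCategory.Q.map g = α ≫ DerivedCategory.Q.map s := by simp [hfac]
    exact this ▸ hα.comp (isPcMap_of_isIso _ _)
  have hgiso : ∀ i, a ≤ i → IsIso (HomologicalComplex.homologyMap g i) := fun i hi =>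
    (NatIso.isIso_map_iff (DerivedCategory.homologyFunctorFactors X.Modules i) g).1
      (hg.1 i (by omega))
  haveI : CochainComplex.IsGE F' a := (CochainComplex.isGE_iff F' a).2 fun i hi =>
    (HomologicalComplex.exactAt_iff_isZero_homology _ _).2
      ((ShortComplex.isZero_homology_of_isZero_X₂ _ (hF i (Or.inl hi))).of_iso
        (((DerivedCategory.homologyFunctorFactors X.Modules i).app F').symm ≪≫
          (H i).mapIso (asIso (DerivedCategory.Q.map s)).symm ≪≫
          (DerivedCategory.homologyFunctorFactors X.Modules i).app F))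
  haveI : QuasiIso (F'.πTruncGE a) := inferInstance
  haveI hq : QuasiIso (CochainComplex.truncGEMap g a) :=
    (CochainComplex.quasiIso_truncGEMap_iff g a).2 fun i hi =>
      (quasiIsoAt_iff_isIso_homologyMap g i).2 (hgiso i hi)
  let P' := P.truncGE a
  let e : DerivedCategory.Q.obj P' ≅ DerivedCategory.Q.obj F :=
    @asIso _ _ _ _ (DerivedCategory.Q.map (CochainComplex.truncGEMap g a)) (isIso_Q_map _ hq) ≪≫
      (@asIso _ _ _ _ (DerivedCategory.Q.map (F'.πTruncGE a))
        (isIso_Q_map _ inferInstance)).symm ≪≫ (asIso (DerivedCategory.Q.map s)).symm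
  obtain ⟨⟨a₀, b₀, hz⟩, hfl⟩ := hP
  have hz' : DCoh.VanishesOutside P' a (max a b₀) := by
    rintro i (hi | hi)
    · exact P'.isZero_of_isStrictlyGE a i hi
    · exact (hz i (Or.inr (by omega))).of_iso (P.truncGEXIso a i (by omega))
  have hflat' : ∀ i, a < i → FlatMod.IsFlat (P'.X i) := fun i hi =>
    IsFlat.of_iso (P.truncGEXIso a i hi).symm (isFlat_of_isFinLocFree (hfl i))
  have hbot : FlatMod.IsFlat (P'.X a) := isFlat_lowest hz' hflat' @fun G _ =>
    (torAmplitude_of_flatAmplitude ⟨F, hF, hflat, ⟨e.symm⟩⟩ G (a - 1) (Or.inl (by omega)))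
  let ec₀ := IsColimit.coconePointUniqueUpToIso (cokernelIsCokernel (P.d (a - 1) a))
    (P.opcyclesIsCokernel (a - 1) a (by simp))
  let ec : cokernel (P.d (a - 1) a) ≅ P'.X a := ec₀ ≪≫ (P.truncGEXIsoOpcycles a).symm
  refine ⟨P', ⟨⟨a, max a b₀, hz'⟩, fun i => ?_⟩, fun i hi => hz' i (Or.inl hi), ⟨e⟩⟩
  rcases lt_trichotomy i a with hi | hi | hi
  · exact isFinLocFree_of_isZero (P'.isZero_of_isStrictlyGE a i hi)
  · subst hi
    exact H23.PullPush.isFinLocFree_of_iso ec
      (isFinLocFree_cokernel _ (hfl _) (hfl _) (IsFlat.of_iso ec.symm hbot))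
  · exact H23.PullPush.isFinLocFree_of_iso (P.truncGEXIso a i hi).symm (hfl i)

/-- Pseudo-coherent of flat amplitude implies perfect. -/
lemma locSP_of_flat_pc {E : DCoh.D X} {a b : ℤ} (hab : a ≤ b)
    (h1 : DCoh.HasFlatAmplitudeIn a b E) (h2 : LocPC (a - 1) E) : LocSP E := fun x => by
  obtain ⟨K, hv, hflat, ⟨e⟩⟩ := h1
  obtain ⟨U, j, _, hx, P, α, hP, hα⟩ := h2 x
  let c : (rho j).obj E ≅ DerivedCategory.Q.obj ((rCx j).obj K) :=
    (rho j).mapIso e.symm ≪≫ (rhoQ j).app K
  obtain ⟨P', hP', -, ⟨e'⟩⟩ := exists_perfect_of_flat_pc (F := (rCx j).obj K) hab hP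
    (fun i hi => (Scheme.Modules.restrictFunctor j).map_isZero (hv i hi))
    (fun i => IsFlat.of_iso ((Scheme.Modules.restrictFunctorIsoPullback j).app _).symm
      (isFlat_pullback j (hflat i)))
    (α ≫ c.hom) (hα.comp (isPcMap_of_isIso _ _))
  exact ⟨U, j, inferInstance, hx, P', hP', ⟨e' ≪≫ c.symm⟩⟩

end Groth.Agent.KFlatLib
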