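import Groth.Agent.KFlatLib.Perfect.BettiStalk
import Groth.Agent.KFlatLib.Perfect.Corollaries
import Groth.Prelude.Def_PerfD

/-!
# Fibre dimensions of a complex of free modules
-/

set_option linter.style.haveILetI false

universe u

open CategoryTheory CategoryTheory.Limits AlgebraicGeometry Opposite Module

attribute [local instance] HasDerivedCategory.standard

namespace Groth.Agent.KFlatLib

section Point

variable {T : Scheme.{u}} [Unique T]

lemma opens_eq_top (t : T) {V : T.Opens} (h : t ∈ V) : V = ⊤ :=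
  eq_top_iff.2 fun y _ => Subsingleton.elim t y ▸ h

lemma bijective_germP (P : CohB1.PMod T) (t : T) :
    Function.Bijective (germP P ⊤ (show t ∈ (⊤ : T.Opens) from trivial)) := by
  refine ⟨fun a b h => ?_, fun m => ?_⟩
  · obtain ⟨W, hW, i, j, hij⟩ := TopCat.Presheaf.germ_eq (C := AddCommGrpCat.{u}) P.presheaf t
      (show t ∈ (⊤ : T.Opens) from trivial) (show t ∈ (⊤ : T.Opens) from trivial) a b h
    obtain rfl := opens_eq_top t hW
    rw [Subsingleton.elim i (𝟙 _), Subsingleton.elim j (𝟙 _), op_id,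
      CategoryTheory.Functor.map_id] at hij
    exact hij
  · obtain ⟨U, hU, s, rfl⟩ := exists_germP m
    obtain rfl := opens_eq_top t hU
    exact ⟨s, rfl⟩

lemma bijective_germ_top (t : T) :
    Function.Bijective (T.presheaf.germ ⊤ t trivial) := by
  refine ⟨fun a b h => ?_, fun m => ?_⟩
  · obtain ⟨W, hW, i, j, hij⟩ := T.presheaf.germ_eq t
      (show t ∈ (⊤ : T.Opens) from trivial) (show t ∈ (⊤ : T.Opens) from trivial) a b h
    obtain rfl := opens_eq_top t hW
    rw [Subsingleton.elim i (𝟙 _), Subsingleton.elim j (𝟙 _), op_id,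
      CategoryTheory.Functor.map_id] at hij
    exact hij
  · obtain ⟨U, hU, s, rfl⟩ := T.presheaf.exists_germ_eq (x := t) m
    obtain rfl := opens_eq_top t hU
    exact ⟨s, rfl⟩

lemma finrank_top_eq_stalk (M : T.Modules) (t : T) :
    finrank (Coh.Γtop T) (M.val.obj (op ⊤)) =
      finrank (T.presheaf.stalk t) ((DerSch.stalkFunctor T t).obj M) := by
  unfold finrank
  refine congrArg _ (rank_eq_of_equiv_equiv
    (fun r : Coh.Γtop T => T.presheaf.germ ⊤ t trivial (show T.presheaf.obj (op ⊤) from r))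
    (AddEquiv.ofBijective _ (bijective_germP (DCoh.toP.obj M) t)) (bijective_germ_top t) ?_)
  intro r m
  exact germP_smul (P := DCoh.toP.obj M) (x := t) ⊤ trivial (show T.presheaf.obj (op ⊤) from r) m

end Point

lemma isField_stalk_spec (K : Type u) [Field K] (t : Spec (CommRingCat.of K)) :
    IsField ((Spec (CommRingCat.of K)).presheaf.stalk t) := by
  haveI : Unique (Spec (CommRingCat.of K)) := inferInstanceAs (Unique (PrimeSpectrum K))
  let e : K ≃+* (Spec (CommRingCat.of K)).presheaf.stalk t :=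
    (Scheme.ΓSpecIso (CommRingCat.of K)).commRingCatIsoToRingEquiv.symm.trans
      (RingEquiv.ofBijective ((Spec (CommRingCat.of K)).presheaf.germ ⊤ t trivial).hom
        (bijective_germ_top t))
  exact MulEquiv.isField (Field.toIsField K) e.symm.toMulEquiv

variable {U T : Scheme.{u}}

/-- The rank at a point of a matrix of functions. -/
noncomputable def rkAt {p q : ℕ} (c : Matrix (Fin p) (Fin q) Γ(U, ⊤)) (y : U) : ℕ :=
  (c.map (U.Γevaluation y).hom).rank

/-- The union of the non-vanishing loci of the minors of size `r`. -/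
noncomputable def minorLocus {p q : ℕ} (c : Matrix (Fin p) (Fin q) Γ(U, ⊤)) (r : ℕ) : U.Opens :=
  ⨆ (s : Fin r → Fin p) (t : Fin r → Fin q), U.basicOpen (c.submatrix s t).det

lemma le_rank_map_iff {p q : ℕ} (c : Matrix (Fin p) (Fin q) Γ(U, ⊤)) (y : U) {K : Type u}
    [Field K] (φ : U.presheaf.stalk y →+* K) [IsLocalHom φ] (r : ℕ) :
    r ≤ (c.map (φ.comp (U.presheaf.germ ⊤ y trivial).hom)).rank ↔ y ∈ minorLocus c r := by
  rw [le_rank_iff_exists_minor]
  simp only [minorLocus, TopologicalSpace.Opens.mem_iSup]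
  refine exists_congr fun s => exists_congr fun t => ?_
  rw [Matrix.submatrix_map, ← RingHom.mapMatrix_apply, ← RingHom.map_det, Scheme.mem_basicOpen_top,
    RingHom.comp_apply, ← isUnit_iff_ne_zero]
  exact ⟨fun h => IsUnit.of_map φ _ h, fun h => h.map φ⟩

lemma rank_map_eq_rkAt {p q : ℕ} (c : Matrix (Fin p) (Fin q) Γ(U, ⊤)) (y : U) {K : Type u}
    [Field K] (φ : U.presheaf.stalk y →+* K) [IsLocalHom φ] :
    (c.map (φ.comp (U.presheaf.germ ⊤ y trivial).hom)).rank = rkAt c y := by
  haveI : IsLocalHom (U.residue y).hom := inferInstanceAs (IsLocalHom (IsLocalRing.residue _))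
  refine eq_of_forall_le_iff fun r => (le_rank_map_iff c y φ r).trans ?_
  exact (le_rank_map_iff c y (U.residue y).hom r).symm

lemma le_rkAt_iff {p q : ℕ} (c : Matrix (Fin p) (Fin q) Γ(U, ⊤)) (y : U) (r : ℕ) :
    r ≤ rkAt c y ↔ y ∈ minorLocus c r :=
  haveI : IsLocalHom (U.residue y).hom := inferInstanceAs (IsLocalHom (IsLocalRing.residue _))
  le_rank_map_iff c y (U.residue y).hom r

/-- The matrices of the differentials. -/
noncomputable def dMat {P : CochainComplex U.Modules ℤ} {n : ℤ → ℕ}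
    (e : ∀ i, P.X i ≅ FlatMod.freeMod U (n i)) (i j : ℤ) :
    Matrix (Fin (n j)) (Fin (n i)) Γ(U, ⊤) :=
  secMat ((e i).inv ≫ P.d i j ≫ (e j).hom)

lemma finrank_pull_homology (g : T ⟶ U) (t : T) (hK : IsField (T.presheaf.stalk t))
    {P : CochainComplex U.Modules ℤ} {n : ℤ → ℕ} (e : ∀ i, P.X i ≅ FlatMod.freeMod U (n i))
    (a i b : ℤ) (hab : a + 1 = i) (hib : i + 1 = b) :
    finrank (T.presheaf.stalk t)
        ((DerSch.stalkFunctor T t).obj (((pullCx g).obj P).homology i)) +
      rkAt (dMat e a i) (g.base t) + rkAt (dMat e i b) (g.base t) = n i := by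
  letI := hK.toField
  let st := DerSch.stalkFunctor T t
  let φ := (g.stalkMap t).hom
  let E := ModuleCat.extendScalars.{u, u, u} φ
  haveI : (st).PreservesHomology :=
    Functor.preservesHomology_of_map_exact _ fun S hS => (exact_iff_stalk S).1 hS t
  let Φ := DerSch.stalkFunctor U (g.base t) ⋙ E
  haveI : E.Additive := DRing.additive_extendScalars φ
  let S : ShortComplex U.Modules := ShortComplex.mk ((e a).inv ≫ P.d a i ≫ (e i).hom)
    ((e i).inv ≫ P.d i b ≫ (e b).hom) (by simp)
  let eS : P.sc' a i b ≅ S := ShortComplex.isoMk (e a) (e i) (e b) (Iso.hom_inv_id_assoc (e a) _) (Iso.hom_inv_id_assoc (e i) _)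
  let iso : st.obj (((pullCx g).obj P).homology i) ≅ (S.map Φ).homology :=
    st.mapIso (((pullCx g).obj P).homologyIsoSc' a i b (by simp; omega) (by simp; omega)) ≪≫
      ((((pullCx g).obj P).sc' a i b).mapHomologyIso st).symm ≪≫
      ShortComplex.homologyMapIso ((P.sc' a i b).mapNatIso (stalkPullbackIso g t)) ≪≫
      ShortComplex.homologyMapIso (Φ.mapShortComplex.mapIso eS)
  have hdim := finrank_extend (g.base t) (n i) φ
  haveI : FiniteDimensional (T.presheaf.stalk t) (S.map Φ).X₂ := hdim.2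
  have h := finrank_homology (S.map Φ)
  rw [← iso.toLinearEquiv.finrank_eq] at h
  have hr : ∀ {p q : ℕ} (d : FlatMod.freeMod U p ⟶ FlatMod.freeMod U q),
      finrank (T.presheaf.stalk t) (LinearMap.range (Φ.map d).hom) =
        rkAt (secMat d) (g.base t) := fun d =>
    (finrank_range_extend (g.base t) d φ).trans (rank_map_eq_rkAt (secMat d) (g.base t) φ)
  have h1 := hr ((e a).inv ≫ P.d a i ≫ (e i).hom)
  have h2 := hr ((e i).inv ≫ P.d i b ≫ (e b).hom)
  have hX : finrank (T.presheaf.stalk t) (S.map Φ).X₂ = n i := hdim.1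
  change _ + finrank _ (LinearMap.range (Φ.map ((e a).inv ≫ P.d a i ≫ (e i).hom)).hom) +
    finrank _ (LinearMap.range (Φ.map ((e i).inv ≫ P.d i b ≫ (e b).hom)).hom) = _ at h
  refine Eq.trans ?_ (h.trans hX)
  exact congrArg₂ (· + ·) (congrArg₂ (· + ·) rfl h1.symm) h2.symm

variable {X : Scheme.{u}}

/-- `Lj^*` for an open immersion is restriction. -/
noncomputable def rhoLpullIso (j : U ⟶ X) [IsOpenImmersion j] [DCoh.HasLpull j] (E : DCoh.D X) :
    (rho j).obj E ≅ (DCoh.Lpull j).obj E :=
  (rho j).mapIso (repKIso E).symm ≪≫ (rhoQ j).app (repK E) ≪≫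
    DerivedCategory.Q.mapIso ((restrictPullCxIso j).app (repK E)) ≪≫ lpullRepIso j E

lemma nonempty_lpull_factor {T : Scheme.{u}} (g : T ⟶ U) (j : U ⟶ X) [IsOpenImmersion j]
    (k : T ⟶ X) (h : g ≫ j = k) [DCoh.HasLpull k] [DCoh.HasLpull g] (E : DCoh.D X) :
    Nonempty ((DCoh.Lpull g).obj ((rho j).obj E) ≅ (DCoh.Lpull k).obj E) := by
  subst h
  haveI := hasLpull j
  obtain ⟨e⟩ := nonempty_lpull_comp g j
  exact ⟨(DCoh.Lpull g).mapIso (rhoLpullIso j E) ≪≫ e.app E⟩

/-- The fibre dimensions along any field-valued point, in terms of the matrices of a representing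
complex of free modules. -/
lemma fibre_formula {T : Scheme.{u}} [Unique T] (t : T) (hK : IsField (T.presheaf.stalk t))
    (E : DCoh.D X) (k : T ⟶ X) [DCoh.HasLpull k]
    (j : U ⟶ X) [IsOpenImmersion j] (y : U) (hy : j.base y = k.base t)
    {P : CochainComplex U.Modules ℤ} (hP : DCoh.IsKFlat P) {n : ℤ → ℕ}
    (e : ∀ i, P.X i ≅ FlatMod.freeMod U (n i))
    (α : DerivedCategory.Q.obj P ⟶ (rho j).obj E) {m : ℤ} (hα : IsPcMap m α)
    (a i b : ℤ) (hab : a + 1 = i) (hib : i + 1 = b) (hi : m < i) :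
    finrank (Coh.Γtop T) ((DCoh.HD ((DCoh.Lpull k).obj E) i).val.obj (op ⊤)) +
      rkAt (dMat e a i) y + rkAt (dMat e i b) y = n i := by
  have hrange : Set.range k.base ⊆ Set.range j.base := by
    rintro _ ⟨s, rfl⟩
    exact ⟨y, by rw [hy, Subsingleton.elim s t]⟩
  let g := IsOpenImmersion.lift j k hrange
  have hg : g ≫ j = k := IsOpenImmersion.lift_fac j k hrange
  have ht : g.base t = y := by
    refine j.isOpenEmbedding.injective ?_
    rw [hy]
    change (g ≫ j).base t = k.base t
    rw [hg]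
  subst ht
  haveI := hasLpull g
  obtain ⟨eL⟩ := nonempty_lpull_factor g j k hg E
  let eR : (rho j).obj E ≅ DCoh.toD U ((rCx j).obj (repK E)) :=
    (rho j).mapIso (repKIso E).symm ≪≫ (rhoQ j).app (repK E)
  have hα' : IsPcMap m (α ≫ eR.hom) := hα.comp (isPcMap_of_isIso m eR.hom)
  haveI := (isPcMap_lpull g (α ≫ eR.hom) hα').1 i hi
  haveI := isIso_lpullComparison g hP
  let eH : DCoh.HD ((DCoh.Lpull k).obj E) i ≅ ((pullCx g).obj P).homology i :=
    (DerivedCategory.homologyFunctor _ i).mapIso (eL.symm ≪≫ (DCoh.Lpull g).mapIso eR) ≪≫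
      (asIso ((DerivedCategory.homologyFunctor _ i).map ((DCoh.Lpull g).map (α ≫ eR.hom)))).symm ≪≫
      (DerivedCategory.homologyFunctor _ i).mapIso (asIso ((lpullComparison g).app P)) ≪≫
      (DerivedCategory.homologyFunctorFactors _ i).app _
  have hb : finrank (Coh.Γtop T) ((DCoh.HD ((DCoh.Lpull k).obj E) i).val.obj (op ⊤)) =
      finrank (T.presheaf.stalk t)
        ((DerSch.stalkFunctor _ t).obj (((pullCx g).obj P).homology i)) :=
    (finrank_top_eq_stalk _ t).trans
      ((DerSch.stalkFunctor _ t).mapIso eH).toLinearEquiv.finrank_eq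
  rw [hb]
  exact finrank_pull_homology g t hK e a i b hab hib

/-- The fibre dimensions in terms of the matrices of a representing complex of free modules. -/
lemma betti_formula (E : DCoh.D X) (x : X) [DCoh.HasLpull (X.fromSpecResidueField x)]
    (j : U ⟶ X) [IsOpenImmersion j] (y : U) (hy : j.base y = x)
    {P : CochainComplex U.Modules ℤ} (hP : DCoh.IsKFlat P) {n : ℤ → ℕ}
    (e : ∀ i, P.X i ≅ FlatMod.freeMod U (n i))
    (α : DerivedCategory.Q.obj P ⟶ (rho j).obj E) {m : ℤ} (hα : IsPcMap m α)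
    (a i b : ℤ) (hab : a + 1 = i) (hib : i + 1 = b) (hi : m < i) :
    PerfD.betti E x i + rkAt (dMat e a i) y + rkAt (dMat e i b) y = n i :=
  fibre_formula default (isField_stalk_spec (X.residueField x) default) E _ j y
    (hy.trans (Scheme.fromSpecResidueField_apply x default).symm) hP e α hα a i b hab hib hi

/-- The fibre dimensions of a derived pullback are those at the image point. -/
lemma betti_lpull {Y : Scheme.{u}} (f : Y ⟶ X) [DCoh.HasLpull f] (E : DCoh.D X) (y : Y)
    [DCoh.HasLpull (Y.fromSpecResidueField y)] [DCoh.HasLpull (X.fromSpecResidueField (f.base y))]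
    (j : U ⟶ X) [IsOpenImmersion j] (y' : U) (hy : j.base y' = f.base y)
    {P : CochainComplex U.Modules ℤ} (hP : DCoh.IsKFlat P) {n : ℤ → ℕ}
    (e : ∀ i, P.X i ≅ FlatMod.freeMod U (n i))
    (α : DerivedCategory.Q.obj P ⟶ (rho j).obj E) {m : ℤ} (hα : IsPcMap m α) {i : ℤ} (hi : m < i) :
    PerfD.betti ((DCoh.Lpull f).obj E) y i = PerfD.betti E (f.base y) i := by
  have h₁ := betti_formula E (f.base y) j y' hy hP e α hα (i - 1) i (i + 1) (by omega) rfl hi
  let k := Y.fromSpecResidueField y ≫ f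
  haveI := hasLpull k
  have ht : k.base default = f.base y := by
    change f.base ((Y.fromSpecResidueField y).base _) = _
    rw [Scheme.fromSpecResidueField_apply]
  have h₂ := fibre_formula default (isField_stalk_spec (Y.residueField y) default) E k j y'
    (hy.trans ht.symm) hP e α hα (i - 1) i (i + 1) (by omega) rfl hi
  obtain ⟨ec⟩ := nonempty_lpull_comp (Y.fromSpecResidueField y) f
  have h₃ : PerfD.betti ((DCoh.Lpull f).obj E) y i =
      finrank (Coh.Γtop (Spec (Y.residueField y)))
        ((DCoh.HD ((DCoh.Lpull k).obj E) i).val.obj (op ⊤)) :=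
    (finrank_top_eq_stalk _ default).trans
      ((((DerSch.stalkFunctor _ default).mapIso ((DerivedCategory.homologyFunctor _ i).mapIso
        (ec.app E))).toLinearEquiv.finrank_eq).trans (finrank_top_eq_stalk _ default).symm)
  have h₂' : finrank (Coh.Γtop (Spec (Y.residueField y)))
      ((DCoh.HD ((DCoh.Lpull k).obj E) i).val.obj (op ⊤)) +
      rkAt (dMat e (i - 1) i) y' + rkAt (dMat e i (i + 1)) y' = n i := h₂
  omega

end Groth.Agent.KFlatLib
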