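import Groth.Agent.KFlatLib.Perfect.Basic
import Mathlib.Algebra.Homology.ShortComplex.Exact

/-!
# Strictly perfect complexes are locally projective
-/

set_option linter.style.haveILetI false

universe u

open CategoryTheory CategoryTheory.Limits AlgebraicGeometry TopologicalSpace Opposite

namespace Groth.Agent.KFlatLib

variable {X : Scheme.{u}}

lemma image_le (W : X.Opens) (V : (W : Scheme.{u}).Opens) : W.ι ''ᵁ V ≤ W :=
  Scheme.Opens.ι_image_le W V

/-- A map out of the unit which hits the image of `s` lifts locally. -/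
lemma exists_lift_unit {G H : X.Modules} (p : G ⟶ H) [Epi p]
    (g : Coh.structureModule X ⟶ H) (x : X) :
    ∃ (W : X.Opens), x ∈ W ∧ ∀ (W' : X.Opens), W' ≤ W →
      ∃ h : Coh.structureModule (W' : Scheme.{u}) ⟶ G.restrict W'.ι,
        h ≫ (Scheme.Modules.restrictFunctor W'.ι).map p =
          (Scheme.Modules.restrictUnitIso W'.ι).inv ≫ (Scheme.Modules.restrictFunctor W'.ι).map g := by
  let s : (DCoh.toP.obj H).obj (op (⊤ : X.Opens)) := (DCoh.toP.map g).app (op ⊤) (oneSec ⊤)
  obtain ⟨m, hm⟩ := (ModuleCat.epi_iff_surjective ((DerSch.stalkFunctor X x).map p)).1 inferInstance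
    (germP (DCoh.toP.obj H) ⊤ trivial s : (DerSch.stalkFunctor X x).obj H)
  obtain ⟨U, hU, t, rfl⟩ := exists_germP (P := DCoh.toP.obj G) m
  have hm' : germP (DCoh.toP.obj H) U hU ((DCoh.toP.map p).app (op U) t) =
      germP (DCoh.toP.obj H) ⊤ trivial s :=
    (DerSch.stalkFunctor_map_germ x p U hU t).symm.trans hm
  obtain ⟨W, hW, i, j, hij⟩ := TopCat.Presheaf.germ_eq (C := AddCommGrpCat.{u})
    (DCoh.toP.obj H).presheaf x hU (show x ∈ (⊤ : X.Opens) from trivial) _ _ hm'
  refine ⟨W, hW, fun W' hW' => ?_⟩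
  let k : W' ⟶ U := homOfLE (hW'.trans i.le)
  refine ⟨(G.restrict W'.ι).unitHomEquiv.symm
    (PresheafOfModules.sectionsMk
      (fun V => (show (G.restrict W'.ι).val.obj V from
        res (DCoh.toP.obj G) (homOfLE ((image_le W' V.unop).trans k.le)) t))
      (fun {V V'} f => by
        change res (DCoh.toP.obj G) (homOfLE (Scheme.Hom.image_mono _ f.unop.le))
            (res (DCoh.toP.obj G) (homOfLE ((image_le W' V.unop).trans k.le)) t) =
          res (DCoh.toP.obj G) (homOfLE ((image_le W' V'.unop).trans k.le)) t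
        rw [res_res]
        exact res_congr _ _ _)), ?_⟩
  refine (SheafOfModules.unitHomEquiv_symm_comp _ _).trans ((Equiv.symm_apply_eq _).2 ?_)
  refine Subtype.ext (funext fun V => ?_)
  change (DCoh.toP.map p).app (op (W'.ι ''ᵁ V.unop))
      (res (DCoh.toP.obj G) (homOfLE ((image_le W' V.unop).trans k.le)) t) =
    (DCoh.toP.map g).app (op (W'.ι ''ᵁ V.unop))
      ((W'.ι.appIso V.unop).inv (1 : Γ((W' : Scheme.{u}), V.unop)))
  rw [map_one]
  change _ = (DCoh.toP.map g).app (op (W'.ι ''ᵁ V.unop)) (oneSec (W'.ι ''ᵁ V.unop))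
  rw [app_res, ← res_oneSec (homOfLE (le_top : W'.ι ''ᵁ V.unop ≤ ⊤)), app_res]
  have hij' : res (DCoh.toP.obj H) i ((DCoh.toP.map p).app (op U) t) =
      res (DCoh.toP.obj H) j s := hij
  rw [res_congr (homOfLE ((image_le W' V.unop).trans k.le))
      (homOfLE ((image_le W' V.unop).trans hW') ≫ i), ← res_res, hij', res_res]
  exact res_congr _ _ _

/-- A map out of a free module lifts locally through an epimorphism. -/
lemma exists_lift_free {n : ℕ} {G H : X.Modules} (p : G ⟶ H) [Epi p]
    (g : FlatMod.freeMod X n ⟶ H) (x : X) :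
    ∃ (W : X.Opens) (h : (FlatMod.freeMod X n).restrict W.ι ⟶ G.restrict W.ι), x ∈ W ∧
      h ≫ (Scheme.Modules.restrictFunctor W.ι).map p = (Scheme.Modules.restrictFunctor W.ι).map g := by
  choose W hW hlift using fun i : Fin n =>
    exists_lift_unit p (Sigma.ι (fun _ : Fin n => Coh.structureModule X) i ≫ g) x
  let V : X.Opens := Finset.univ.inf W
  have hV : x ∈ V := (Finset.inf_induction (s := Finset.univ) (f := W) (p := fun U => x ∈ U)
    trivial (fun _ ha _ hb => ⟨ha, hb⟩) fun i _ => hW i)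
  choose h hh using fun i => hlift i V (Finset.inf_le (Finset.mem_univ i))
  let e := PreservesCoproduct.iso (Scheme.Modules.restrictFunctor V.ι)
    (fun _ : Fin n => Coh.structureModule X)
  refine ⟨V, e.hom ≫ Sigma.desc (fun i => (Scheme.Modules.restrictUnitIso V.ι).hom ≫ h i), hV, ?_⟩
  rw [Category.assoc, ← cancel_epi e.inv, Iso.inv_hom_id_assoc]
  refine Sigma.hom_ext _ _ fun i => ?_
  rw [Sigma.ι_desc_assoc, Category.assoc, hh i, Iso.hom_inv_id_assoc, Functor.map_comp]
  simp [e, ← Functor.map_comp]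

/-- Restriction to an open of an open. -/
noncomputable def shrinkIso (U : X.Opens) (V : (U : Scheme.{u}).Opens) :
    Scheme.Modules.restrictFunctor (U.ι ''ᵁ V).ι ≅ Scheme.Modules.restrictFunctor U.ι ⋙
      Scheme.Modules.restrictFunctor V.ι ⋙
        Scheme.Modules.restrictFunctor (U.ι.isoImage V).inv :=
  Scheme.Modules.restrictFunctorCongr (Scheme.Hom.isoImage_inv_ι U.ι V).symm ≪≫
    Scheme.Modules.restrictFunctorComp _ (V.ι ≫ U.ι) ≪≫
    Functor.isoWhiskerRight (Scheme.Modules.restrictFunctorComp V.ι U.ι) _ ≪≫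
    Functor.associator _ _ _

/-- A map out of a finite locally free module lifts locally through an epimorphism. -/
lemma exists_lift {M G H : X.Modules} (hM : FlatMod.IsFinLocFree M) (p : G ⟶ H) [Epi p]
    (g : M ⟶ H) (x : X) :
    ∃ (W : X.Opens) (h : M.restrict W.ι ⟶ G.restrict W.ι), x ∈ W ∧
      h ≫ (Scheme.Modules.restrictFunctor W.ι).map p = (Scheme.Modules.restrictFunctor W.ι).map g := by
  obtain ⟨U, n, hx, ⟨e⟩⟩ := hM x
  let R := Scheme.Modules.restrictFunctor U.ι
  obtain ⟨V, h, hy, hh⟩ := exists_lift_free (R.map p) (e.inv ≫ R.map g) ⟨x, hx⟩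
  let S := Scheme.Modules.restrictFunctor V.ι
  let T := Scheme.Modules.restrictFunctor (U.ι.isoImage V).inv
  let σ := shrinkIso U V
  refine ⟨U.ι ''ᵁ V, σ.hom.app M ≫ T.map (S.map e.hom ≫ h) ≫ σ.inv.app G, ⟨⟨x, hx⟩, hy, rfl⟩, ?_⟩
  have hn := σ.inv.naturality p
  dsimp at hn
  rw [Category.assoc, Category.assoc, ← hn, ← Functor.map_comp_assoc, Category.assoc]
  change σ.hom.app M ≫ T.map (S.map e.hom ≫ h ≫ S.map (R.map p)) ≫ σ.inv.app H = _
  have hh' : h ≫ S.map (R.map p) = S.map (e.inv ≫ R.map g) := hh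
  rw [hh', ← Functor.map_comp S, Iso.hom_inv_id_assoc]
  exact NatIso.naturality_2 σ g

/-- A map killed by the second map of an exact sequence lifts locally to the first. -/
lemma exists_lift_exact {S : ShortComplex X.Modules} (hS : S.Exact) {M : X.Modules}
    (hM : FlatMod.IsFinLocFree M) (g : M ⟶ S.X₂) (hg : g ≫ S.g = 0) (x : X) :
    ∃ (W : X.Opens) (h : M.restrict W.ι ⟶ S.X₁.restrict W.ι), x ∈ W ∧
      h ≫ (Scheme.Modules.restrictFunctor W.ι).map S.f =
        (Scheme.Modules.restrictFunctor W.ι).map g := by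
  haveI := hS.epi_toCycles
  obtain ⟨W, h, hx, hh⟩ := exists_lift hM S.toCycles (S.liftCycles g hg) x
  refine ⟨W, h, hx, ?_⟩
  have := hh =≫ (Scheme.Modules.restrictFunctor W.ι).map S.iCycles
  rwa [Category.assoc, ← Functor.map_comp, S.toCycles_i, ← Functor.map_comp,
    S.liftCycles_i] at this

/-- Transport of a homotopy on an open of an open. -/
noncomputable def shrinkHomotopy (U : X.Opens) (V : (U : Scheme.{u}).Opens)
    {E F : CochainComplex X.Modules ℤ} {α β : E ⟶ F}
    (H : Homotopy ((DCoh.restrictCx V).map ((DCoh.restrictCx U).map α))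
      ((DCoh.restrictCx V).map ((DCoh.restrictCx U).map β))) :
    Homotopy ((DCoh.restrictCx (U.ι ''ᵁ V)).map α) ((DCoh.restrictCx (U.ι ''ᵁ V)).map β) :=
  let σ := NatIso.mapHomologicalComplex (shrinkIso U V) (ComplexShape.up ℤ)
  (Homotopy.ofEq (NatIso.naturality_2 σ α).symm).trans
    (((((Scheme.Modules.restrictFunctor (U.ι.isoImage V).inv).mapHomotopy H).compRight
      (σ.inv.app F)).compLeft (σ.hom.app E)).trans (Homotopy.ofEq (NatIso.naturality_2 σ β)))

lemma isFinLocFree_restrict (U : X.Opens) {M : X.Modules} (hM : FlatMod.IsFinLocFree M) :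
    FlatMod.IsFinLocFree (M.restrict U.ι) :=
  H23.PullPush.isFinLocFree_of_iso ((Scheme.Modules.restrictFunctorIsoPullback U.ι).app M).symm
    (isFinLocFree_pullback U.ι hM)

lemma exactAt_restrict (U : X.Opens) {F : CochainComplex X.Modules ℤ} {i : ℤ} (h : F.ExactAt i) :
    ((DCoh.restrictCx U).obj F).ExactAt i :=
  ShortComplex.Exact.map h (Scheme.Modules.restrictFunctor U.ι)

lemma exists_nullHomotopy_aux (n : ℕ) : ∀ {X : Scheme.{u}} {E F : CochainComplex X.Modules ℤ}
    (α : E ⟶ F), (∀ i, FlatMod.IsFinLocFree (E.X i)) → ∀ (a : ℤ),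
    (∀ i, i < a → IsZero (E.X i)) → (∀ i, a ≤ i → F.ExactAt i) →
    (∀ i, a + n ≤ i → α.f i = 0) → ∀ x : X,
    ∃ V : X.Opens, x ∈ V ∧ Nonempty (Homotopy ((DCoh.restrictCx V).map α) 0) := by
  induction n with
  | zero =>
    intro X E F α _ a hEa _ hα x
    refine ⟨⊤, trivial, ⟨Homotopy.ofEq ?_⟩⟩
    have : α = 0 := HomologicalComplex.hom_ext _ _ fun i => by
      rcases lt_or_ge i a with h | h
      · exact (hEa i h).eq_of_src _ _
      · exact hα i (by omega)
    rw [this, Functor.map_zero]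
  | succ n ih =>
    intro X E F α hE a hEa hF hα x
    obtain ⟨k, hk⟩ : ∃ k, k = a + n := ⟨_, rfl⟩
    have hcyc : α.f k ≫ F.d k (k + 1) = 0 := by
      rw [α.comm, hα (k + 1) (by omega), comp_zero]
    obtain ⟨W, h, hx, hh⟩ := exists_lift_exact
      ((F.exactAt_iff' (k - 1) k (k + 1) (by simp) (by simp)).1 (hF k (by omega)))
      (hE k) (α.f k) hcyc x
    let E' := (DCoh.restrictCx W).obj E
    let F' := (DCoh.restrictCx W).obj F
    let hom : ∀ i j : ℤ, (ComplexShape.up ℤ).Rel j i → (E'.X i ⟶ F'.X j) := fun i j hji =>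
      if hi : i = k then
        eqToHom (by subst hi; rfl) ≫ h ≫ eqToHom (by
          have : j + 1 = i := hji
          obtain rfl : j = k - 1 := by omega
          rfl)
      else 0
    let α' := (DCoh.restrictCx W).map α - Homotopy.nullHomotopicMap' hom
    have hα' : ∀ i, a + n ≤ i → α'.f i = 0 := fun i hi => by
      change ((DCoh.restrictCx W).map α).f i - (Homotopy.nullHomotopicMap' hom).f i = 0
      rw [Homotopy.nullHomotopicMap'_f (k₂ := i - 1) (k₀ := i + 1) (by simp) (by simp)]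
      have h0 : hom (i + 1) i (by simp) = 0 := dif_neg (by omega)
      rw [h0, comp_zero, zero_add, sub_eq_zero]
      rcases eq_or_lt_of_le (show k ≤ i by omega) with h' | h'
      · subst h'
        rw [show hom k (k - 1) (by simp) = h from
          (dif_pos rfl).trans ((Category.id_comp _).trans (Category.comp_id _))]
        exact hh.symm
      · rw [show hom i (i - 1) (by simp) = 0 from dif_neg (by omega), zero_comp]
        change (Scheme.Modules.restrictFunctor W.ι).map (α.f i) = 0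
        rw [hα i (by omega), Functor.map_zero]
    obtain ⟨V, hy, ⟨H⟩⟩ := ih α' (fun i => isFinLocFree_restrict W (hE i)) a
      (fun i hi => (Scheme.Modules.restrictFunctor W.ι).map_isZero (hEa i hi))
      (fun i hi => exactAt_restrict W (hF i hi)) hα' ⟨x, hx⟩
    have H₁ : Homotopy ((DCoh.restrictCx W).map α) α' :=
      Homotopy.equivSubZero.symm
        ((Homotopy.ofEq (by simp [α'])).trans (Homotopy.nullHomotopy' hom))
    have H₂ := ((Scheme.Modules.restrictFunctor V.ι).mapHomotopy H₁).trans H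
    refine ⟨W.ι ''ᵁ V, ⟨⟨x, hx⟩, hy, rfl⟩, ⟨?_⟩⟩
    exact (shrinkHomotopy W V (β := 0) (H₂.trans (Homotopy.ofEq (by
      rw [Functor.map_zero, Functor.map_zero])))).trans (Homotopy.ofEq (Functor.map_zero _ _ _))

/-- Maps from strictly perfect to acyclic complexes are locally null-homotopic. -/
lemma exists_nullHomotopy {E F : CochainComplex X.Modules ℤ} (α : E ⟶ F)
    (hE : DCoh.IsStrictlyPerfect E) (a : ℤ) (hEa : ∀ i : ℤ, i < a → IsZero (E.X i))
    (hF : ∀ i : ℤ, a ≤ i → IsZero (F.homology i)) (x : X) :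
    ∃ V : X.Opens, x ∈ V ∧ Nonempty (Homotopy ((DCoh.restrictCx V).map α) 0) := by
  obtain ⟨⟨c, d, hd⟩, hf⟩ := hE
  exact exists_nullHomotopy_aux (d + 1 - a).toNat α hf a hEa
    (fun i hi => (F.exactAt_iff_isZero_homology i).2 (hF i hi))
    (fun i hi => (hd i (Or.inr (by omega))).eq_of_src _ _) x

end Groth.Agent.KFlatLib
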