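import Groth.Agent.KFlatLib.Perfect.DLocal
import Mathlib.CategoryTheory.Limits.Preserves.Shapes.Biproducts
import Mathlib.CategoryTheory.Preadditive.AdditiveFunctor

/-!
# Direct summands of pseudo-coherent objects
-/

set_option linter.style.haveILetI false

universe u

open CategoryTheory CategoryTheory.Limits AlgebraicGeometry CategoryTheory.Pretriangulated

attribute [local instance] HasDerivedCategory.standard

namespace Groth.Agent.KFlatLib

variable {X : Scheme.{u}}

open ZeroObject in
/-- Objects without cohomology in degrees `≥ n` are `n`-pseudo-coherent. -/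
lemma locPC_of_isZero (n : ℤ) (K : DCoh.D X)
    (h : ∀ i, n ≤ i → IsZero (DCoh.HD K i)) : LocPC n K := fun x => by
  let P : CochainComplex X.Modules ℤ := 0
  have hP : ∀ i, IsZero (P.X i) := fun i =>
    (HomologicalComplex.eval X.Modules (ComplexShape.up ℤ) i).map_isZero (isZero_zero _)
  have hz : ∀ i, n ≤ i →
      IsZero ((DerivedCategory.homologyFunctor X.Modules i).obj ((rho (𝟙 X)).obj K)) := fun i hi => by
    let F := DerivedCategory.Q.objPreimage K
    have hF : IsZero (F.homology i) := (h i hi).of_iso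
      (((DerivedCategory.homologyFunctorFactors X.Modules i).app F).symm ≪≫
        (DerivedCategory.homologyFunctor X.Modules i).mapIso (repIso K))
    exact ((Scheme.Modules.restrictFunctor (𝟙 X)).map_isZero hF).of_iso
      ((DerivedCategory.homologyFunctor X.Modules i).mapIso
          ((rho (𝟙 X)).mapIso (repIso K).symm ≪≫ (rhoQ (𝟙 X)).app F) ≪≫
        (DerivedCategory.homologyFunctorFactors X.Modules i).app _ ≪≫
        (F.sc i).mapHomologyIso (Scheme.Modules.restrictFunctor (𝟙 X)))
  have hPz : ∀ i, IsZero ((DerivedCategory.homologyFunctor X.Modules i).obj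
      (DerivedCategory.Q.obj P)) := fun i =>
    (ShortComplex.isZero_homology_of_isZero_X₂ _ (hP i)).of_iso
      ((DerivedCategory.homologyFunctorFactors X.Modules i).app P)
  exact ⟨X, 𝟙 X, inferInstance, ⟨x, rfl⟩, P, 0,
    ⟨⟨0, 0, fun i _ => hP i⟩, fun i => isFinLocFree_of_isZero (hP i)⟩,
    fun i hi => ⟨0, (hPz i).eq_of_src _ _, (hz i hi.le).eq_of_src _ _⟩,
    ⟨fun a b _ => (hz n le_rfl).eq_of_src a b⟩⟩

/-- Summands of a pseudo-coherent object, assuming a bound on the cohomology. -/
lemma locPC_summand_aux (m : ℤ) (d : ℕ) : ∀ (K L : DCoh.D X) [HasBinaryBiproduct K L],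
    LocPC m (K ⊞ L) → (∀ i, m + d ≤ i → IsZero (DCoh.HD K i)) →
      (∀ i, m + d ≤ i → IsZero (DCoh.HD L i)) → LocPC m K ∧ LocPC m L := by
  induction d generalizing m with
  | zero =>
    intro K L _ _ hK hL
    exact ⟨locPC_of_isZero m K fun i hi => hK i (by simpa using hi),
      locPC_of_isZero m L fun i hi => hL i (by simpa using hi)⟩
  | succ d ih =>
    intro K L _ h hK hL
    obtain ⟨hK', hL'⟩ := ih (m + 1) K L (h.mono (by omega))
      (fun i hi => hK i (by push_cast; omega)) (fun i hi => hL i (by push_cast; omega))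
    haveI : HasBinaryBiproduct L K := inferInstance
    exact ⟨locPC_obj₃ _ (binaryBiproductTriangle_distinguished L K) hL'
        (h.of_iso (biprod.braiding K L)),
      locPC_obj₃ _ (binaryBiproductTriangle_distinguished K L) hK' h⟩

/-- Pseudo-coherence passes to direct summands. -/
lemma locPC_summand (m : ℤ) (K L : DCoh.D X) [HasBinaryBiproduct K L] (h : LocPC m (K ⊞ L)) :
    LocPC m K ∧ LocPC m L := by
  have key : ∀ x : X, ∃ (U : Scheme.{u}) (j : U ⟶ X) (_ : IsOpenImmersion j),
      x ∈ Set.range j.base ∧ LocPC m ((rho j).obj K) ∧ LocPC m ((rho j).obj L) := fun x => by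
    obtain ⟨U, j, _, hx, P, α, hP, hα⟩ := h x
    obtain ⟨a, b, hab⟩ := hP.1
    let d := (max b m + 1 - m).toNat
    have hz : ∀ i, m + d ≤ i → IsZero (DCoh.HD ((rho j).obj (K ⊞ L)) i) := fun i hi => by
      haveI := hα.1 i (by omega)
      exact ((ShortComplex.isZero_homology_of_isZero_X₂ _ (hab i (Or.inr (by omega)))).of_iso
        ((DerivedCategory.homologyFunctorFactors U.Modules i).app P)).of_iso
          (asIso ((DerivedCategory.homologyFunctor U.Modules i).map α)).symm
    have hr : ∀ {M : DCoh.D X} (s : M ⟶ K ⊞ L) (r : K ⊞ L ⟶ M), s ≫ r = 𝟙 M → ∀ i, m + d ≤ i →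
        IsZero (DCoh.HD ((rho j).obj M) i) := fun {M} s r hsr i hi =>
      isZero_of_retract ((rho j ⋙ DerivedCategory.homologyFunctor U.Modules i).map s)
        ((rho j ⋙ DerivedCategory.homologyFunctor U.Modules i).map r)
        (by rw [← Functor.map_comp, hsr]; exact CategoryTheory.Functor.map_id _ _) (hz i hi)
    haveI := preservesBinaryBiproducts_of_preservesBiproducts (rho j)
    exact ⟨U, j, inferInstance, hx, locPC_summand_aux m d _ _
      ((h.restrict j).of_iso ((rho j).mapBiprod K L))
      (hr biprod.inl biprod.fst biprod.inl_fst) (hr biprod.inr biprod.snd biprod.inr_snd)⟩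
  constructor <;> refine LocPC.of_local fun x => ?_
  · obtain ⟨U, j, hj, hx, h₁, h₂⟩ := key x
    exact ⟨U, j, hj, hx, h₁⟩
  · obtain ⟨U, j, hj, hx, h₁, h₂⟩ := key x
    exact ⟨U, j, hj, hx, h₂⟩

end Groth.Agent.KFlatLib
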