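import Groth.Agent.KFlatLib.Perfect.Betti

/-!
# Semicontinuity of fibre dimensions and the local constancy of the Euler characteristic
-/

set_option linter.style.haveILetI false

universe u

open CategoryTheory CategoryTheory.Limits AlgebraicGeometry Module

attribute [local instance] HasDerivedCategory.standard

namespace Groth.Agent.KFlatLib

variable {X : Scheme.{u}}

lemma exists_free_bounded {U : Scheme.{u}} {P : CochainComplex U.Modules ℤ} {a b : ℤ}
    (hab : DCoh.VanishesOutside P a b) (h : ∀ i, ∃ n : ℕ, Nonempty (P.X i ≅ FlatMod.freeMod U n)) :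
    ∃ (n : ℤ → ℕ) (_ : ∀ i, P.X i ≅ FlatMod.freeMod U (n i)),
      DCoh.IsKFlat P ∧ ∀ i, i < a ∨ b < i → n i = 0 := by
  choose n e using h
  refine ⟨fun i => if i < a ∨ b < i then 0 else n i, fun i => ?_,
    isKFlat_of_vanishesOutside hab fun i => IsFlat.of_iso (e i).some.symm (isFlat_freeMod (n i)),
    fun i hi => if_pos hi⟩
  by_cases hi : i < a ∨ b < i
  · exact (hab i hi).iso isZero_freeMod_zero ≪≫ eqToIso (by simp [hi])
  · exact (e i).some ≪≫ eqToIso (by simp [hi])

/-- Local data computing the fibre dimensions in degrees above `m`. -/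
lemma exists_betti_data (E : DCoh.D X) {m : ℤ} (hE : LocPC m E) (x : X) :
    ∃ (U : Scheme.{u}) (j : U ⟶ X) (_ : IsOpenImmersion j) (_ : x ∈ Set.range j.base)
      (P : CochainComplex U.Modules ℤ) (n : ℤ → ℕ) (_ : ∀ i, P.X i ≅ FlatMod.freeMod U (n i))
      (α : DerivedCategory.Q.obj P ⟶ (rho j).obj E), DCoh.IsKFlat P ∧ IsPcMap m α := by
  obtain ⟨U, j, _, ⟨u', rfl⟩, P, α, hP, hα⟩ := hE x
  obtain ⟨a, b, hab⟩ := hP.1
  obtain ⟨W, hW, hfree⟩ := exists_free_nhd hab hP.2 u'
  obtain ⟨n, e, hflat, -⟩ := exists_free_bounded (P := (rCx W.ι).obj P)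
    (fun i hi => (Scheme.Modules.restrictFunctor W.ι).map_isZero (hab i hi)) hfree
  exact ⟨_, W.ι ≫ j, inferInstance, ⟨⟨u', hW⟩, rfl⟩, _, n, e,
    ((rhoQ W.ι).app P).inv ≫ (rho W.ι).map α ≫ (rhoComp W.ι j _ rfl E).hom, hflat,
    (hα.map_exact _).comp_iso _ _⟩

lemma isOpen_betti_lt [∀ x : X, DCoh.HasLpull (X.fromSpecResidueField x)] (E : DCoh.D X) {m : ℤ}
    (hE : LocPC m E) {i : ℤ} (hi : m < i) (N : ℕ) : IsOpen {x : X | PerfD.betti E x i < N} := by
  refine isOpen_iff_forall_mem_open.2 fun x hx => ?_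
  obtain ⟨U, j, _, ⟨y, rfl⟩, P, n, e, α, hP, hα⟩ := exists_betti_data E hE x
  have hf : ∀ y : U, PerfD.betti E (j.base y) i + rkAt (dMat e (i - 1) i) y +
      rkAt (dMat e i (i + 1)) y = n i := fun y =>
    betti_formula E _ j y rfl hP e α hα (i - 1) i (i + 1) (by omega) rfl hi
  let V : U.Opens := minorLocus (dMat e (i - 1) i) (rkAt (dMat e (i - 1) i) y) ⊓
    minorLocus (dMat e i (i + 1)) (rkAt (dMat e i (i + 1)) y)
  refine ⟨j.base '' V, ?_, j.isOpenEmbedding.isOpenMap _ V.2,
    ⟨y, ⟨(le_rkAt_iff _ _ _).1 le_rfl, (le_rkAt_iff _ _ _).1 le_rfl⟩, rfl⟩⟩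
  rintro _ ⟨z, hz, rfl⟩
  have h1 := (le_rkAt_iff _ _ _).2 hz.1
  have h2 := (le_rkAt_iff _ _ _).2 hz.2
  have := hf y
  have := hf z
  have : PerfD.betti E (j.base y) i < N := hx
  change PerfD.betti E (j.base z) i < N
  omega

lemma finsum_shift_sub (g : ℤ → ℤ) (hg : g.support.Finite) :
    ∑ᶠ i, (g i - g (i - 1)) = 0 := by
  rw [finsum_sub_distrib hg (hg.preimage (sub_left_injective.injOn)), sub_eq_zero]
  exact (finsum_comp_equiv (Equiv.subRight (1 : ℤ)) (f := g)).symm

lemma isLocallyConstant_eulerChar [∀ x : X, DCoh.HasLpull (X.fromSpecResidueField x)]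
    (E : DCoh.D X) (hE : DCoh.IsPerfect E) : IsLocallyConstant fun x : X => PerfD.eulerChar E x := by
  refine (IsLocallyConstant.iff_exists_open _).2 fun x => ?_
  obtain ⟨U, j, _, hx, P, a, b, hab, hfree, ⟨eE⟩⟩ := exists_free_rep hE x
  obtain ⟨n, e, hP, hn⟩ := exists_free_bounded hab hfree
  let χ : ℤ := ∑ᶠ i : ℤ, (i.negOnePow : ℤ) * (n i : ℤ)
  have key : ∀ y : U, PerfD.eulerChar E (j.base y) = χ := fun y => by
    have hf : ∀ i, PerfD.betti E (j.base y) i + rkAt (dMat e (i - 1) i) y +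
        rkAt (dMat e i (i + 1)) y = n i := fun i =>
      betti_formula E _ j y rfl hP e eE.hom (isPcMap_of_isIso (i - 1) eE.hom) (i - 1) i (i + 1)
        (by omega) rfl (by omega)
    have hcast : ∀ i k : ℤ, i + 1 = k →
        rkAt (dMat e i (i + 1)) y = rkAt (dMat e i k) y := by rintro i k rfl; rfl
    let g : ℤ → ℤ := fun i => (i.negOnePow : ℤ) * (rkAt (dMat e i (i + 1)) y : ℤ)
    have hfin : g.support.Finite := (Finset.Icc a b).finite_toSet.subset fun i hi => by
      by_contra h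
      have h0 : n i = 0 := hn i (by simp at h; omega)
      refine hi ?_
      have : rkAt (dMat e i (i + 1)) y ≤ n i := (Matrix.rank_le_width _)
      simp [g, show rkAt (dMat e i (i + 1)) y = 0 by omega]
    have hterm : ∀ i : ℤ, (i.negOnePow : ℤ) * (PerfD.betti E (j.base y) i : ℤ) =
        (i.negOnePow : ℤ) * (n i : ℤ) - (g i - g (i - 1)) := fun i => by
      have h := hf i
      have hs : ((i - 1).negOnePow : ℤ) = -(i.negOnePow : ℤ) := by
        rw [Int.negOnePow_sub, Int.negOnePow_one]; simp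
      have hg' : g (i - 1) = -(i.negOnePow : ℤ) * (rkAt (dMat e (i - 1) i) y : ℤ) := by
        simp only [g, hs]
        rw [hcast (i - 1) i (by omega)]
      have h' : (PerfD.betti E (j.base y) i : ℤ) + rkAt (dMat e (i - 1) i) y +
          rkAt (dMat e i (i + 1)) y = n i := by exact_mod_cast h
      rw [hg']
      simp only [g]
      linear_combination (i.negOnePow : ℤ) * h'
    have hfn : (Function.support fun i : ℤ => (i.negOnePow : ℤ) * (n i : ℤ)).Finite :=
      (Finset.Icc a b).finite_toSet.subset fun i hi => by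
        by_contra h
        refine hi ?_
        simp [hn i (by simp at h; omega)]
    have hfg : (Function.support fun i : ℤ => g i - g (i - 1)).Finite :=
      (hfin.union (hfin.preimage (sub_left_injective (b := (1 : ℤ))).injOn)).subset fun i hi => by
        by_contra h
        simp only [Set.mem_union, Set.mem_preimage, Function.mem_support, not_or, not_not] at h
        exact hi (by simp [h.1, h.2])
    unfold PerfD.eulerChar
    rw [finsum_congr hterm, finsum_sub_distrib hfn hfg, finsum_shift_sub g hfin, sub_zero]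
  obtain ⟨y, rfl⟩ := hx
  refine ⟨Set.range j.base, j.isOpenEmbedding.isOpen_range, ⟨y, rfl⟩, ?_⟩
  rintro _ ⟨z, rfl⟩
  change PerfD.eulerChar E _ = PerfD.eulerChar E _
  rw [key z, key y]

end Groth.Agent.KFlatLib
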