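import Mathlib.RingTheory.LocalRing.Module
import Mathlib.RingTheory.TensorProduct.Finite
import Mathlib.LinearAlgebra.FreeModule.PID
import Mathlib.LinearAlgebra.Dimension.RankNullity
import Mathlib.LinearAlgebra.FiniteDimensional.Lemmas
import Mathlib.LinearAlgebra.Dimension.Constructions
import Mathlib.LinearAlgebra.Basis.VectorSpace
import Mathlib.LinearAlgebra.TensorProduct.Basis

/-!
# Exactness of free complexes over a local ring from exactness of the fibre
-/

universe u

open scoped TensorProduct
open Module IsLocalRing

namespace Groth.Agent.KFlatLib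

variable {R : Type u} [CommRing R] [IsLocalRing R]
variable {A B C : Type u} [AddCommGroup A] [AddCommGroup B] [AddCommGroup C]
  [Module R A] [Module R B] [Module R C]
  [Module.Finite R B] [Module.Free R B] [Module.Finite R C] [Module.Free R C]

lemma exact_of_fibre {f : A →ₗ[R] B} {g : B →ₗ[R] C} (hfg : g ∘ₗ f = 0)
    (hex : finrank (ResidueField R) (LinearMap.range (f.baseChange (ResidueField R))) +
        finrank (ResidueField R) (LinearMap.range (g.baseChange (ResidueField R))) =
      finrank (ResidueField R) (ResidueField R ⊗[R] B)) :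
    Function.Exact f g ∧ Module.Free R (C ⧸ LinearMap.range g) ∧
      finrank R (C ⧸ LinearMap.range g) +
        finrank (ResidueField R) (LinearMap.range (g.baseChange (ResidueField R))) = finrank R C := by
  classical
  let fb := f.baseChange (ResidueField R)
  let gb := g.baseChange (ResidueField R)
  have hle : LinearMap.range fb ≤ LinearMap.ker gb := by
    rintro _ ⟨z, rfl⟩
    rw [LinearMap.mem_ker, ← LinearMap.comp_apply, ← LinearMap.baseChange_comp, hfg,
      LinearMap.baseChange_zero, LinearMap.zero_apply]
  have hker : LinearMap.range fb = LinearMap.ker gb := by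
    refine Submodule.eq_of_le_of_finrank_eq hle ?_
    have := gb.finrank_range_add_finrank_ker
    change finrank (ResidueField R) (LinearMap.range fb) + finrank (ResidueField R) (LinearMap.range gb) = _ at hex
    omega
  haveI : Module.Free (ResidueField R) (LinearMap.range gb) :=
    Module.Free.of_basis (Module.Basis.ofVectorSpace (ResidueField R) (LinearMap.range gb))
  let b := Module.finBasis (ResidueField R) (LinearMap.range gb)
  choose z hz using fun i => (b i).2
  have hmk : Function.Surjective (TensorProduct.mk R (ResidueField R) B 1) :=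
    TensorProduct.mk_surjective R B (ResidueField R) Ideal.Quotient.mk_surjective
  choose w hw using fun i => hmk (z i)
  let h : (Fin (finrank (ResidueField R) (LinearMap.range gb)) → R) →ₗ[R] B := Fintype.linearCombination R w
  have hh : ∀ i, gb ((h.baseChange (ResidueField R)) (1 ⊗ₜ Pi.single i 1)) = b i := fun i => by
    rw [← hz i, ← hw i]
    simp [h]
  have hinj : Function.Injective ((g ∘ₗ h).lTensor (ResidueField R)) := by
    let b₀ := (Pi.basisFun R (Fin (finrank (ResidueField R) (LinearMap.range gb)))).baseChange (ResidueField R)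
    have h2 : ∀ i, (g ∘ₗ h).baseChange (ResidueField R) (b₀ i) = b i := fun i => by
      rw [Module.Basis.baseChange_apply, Pi.basisFun_apply, LinearMap.baseChange_comp,
        LinearMap.comp_apply]
      exact hh i
    have hi : Function.Injective ((g ∘ₗ h).baseChange (ResidueField R)) := by
      have e : (g ∘ₗ h).baseChange (ResidueField R) =
          (LinearMap.range gb).subtype ∘ₗ (b₀.equiv b (Equiv.refl _)).toLinearMap :=
        b₀.ext fun i => by simp [h2]
      rw [e]
      exact (LinearMap.range gb).injective_subtype.comp (LinearEquiv.injective _)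
    exact hi
  obtain ⟨r, hr⟩ := (split_injective_iff_lTensor_residueField_injective (g ∘ₗ h)).2 hinj
  have hgh : Function.Injective (g ∘ₗ h) :=
    Function.HasLeftInverse.injective ⟨r, LinearMap.congr_fun hr⟩
  have htop : LinearMap.range f ⊔ LinearMap.range h = ⊤ := by
    rw [← map_tensorProduct_mk_eq_top, eq_top_iff]
    intro y _
    obtain ⟨v, hv⟩ : ∃ v, gb ((h.baseChange (ResidueField R)) v) = gb y := by
      obtain ⟨c, hc⟩ : ∃ c : Fin _ → ResidueField R, ∑ i, c i • b i = ⟨gb y, ⟨y, rfl⟩⟩ :=
        ⟨fun i => b.repr ⟨gb y, ⟨y, rfl⟩⟩ i, b.sum_repr _⟩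
      refine ⟨∑ i, c i • (1 ⊗ₜ Pi.single i 1), ?_⟩
      simp only [map_sum, map_smul, hh]
      simpa using congrArg Subtype.val hc
    obtain ⟨a, ha⟩ : y - h.baseChange (ResidueField R) v ∈ LinearMap.range fb := by
      rw [hker, LinearMap.mem_ker, map_sub, hv, sub_self]
    have hy : y = fb a + h.baseChange (ResidueField R) v := by rw [ha]; abel
    rw [Submodule.map_sup, hy]
    refine Submodule.add_mem_sup ?_ ?_
    · obtain ⟨a', rfl⟩ := TensorProduct.mk_surjective R A (ResidueField R) Ideal.Quotient.mk_surjective a
      exact ⟨f a', ⟨a', rfl⟩, by simp [fb]⟩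
    · obtain ⟨v', rfl⟩ := TensorProduct.mk_surjective R _ (ResidueField R) Ideal.Quotient.mk_surjective v
      exact ⟨h v', ⟨v', rfl⟩, by simp⟩
  have hdec : ∀ y : B, ∃ a v, f a + h v = y := fun y => by
    have hy : y ∈ LinearMap.range f ⊔ LinearMap.range h := htop ▸ Submodule.mem_top
    obtain ⟨_, ⟨a, rfl⟩, _, ⟨v, rfl⟩, rfl⟩ := Submodule.mem_sup.1 hy
    exact ⟨a, v, rfl⟩
  have hgf : ∀ a, g (f a) = 0 := LinearMap.congr_fun hfg
  have hrange : LinearMap.range g = LinearMap.range (g ∘ₗ h) := by
    refine le_antisymm ?_ (LinearMap.range_comp_le_range _ _)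
    rintro _ ⟨y, rfl⟩
    obtain ⟨a, v, rfl⟩ := hdec y
    exact ⟨v, by simp [hgf a]⟩
  have hfree : Module.Free R (C ⧸ LinearMap.range g) := by
    rw [hrange]
    exact free_of_lTensor_residueField_injective (g ∘ₗ h) (Submodule.mkQ _)
      (Submodule.mkQ_surjective _) (g ∘ₗ h).exact_map_mkQ_range hinj
  refine ⟨fun y => ⟨fun hy => ?_, fun ⟨a, ha⟩ => ha ▸ hgf a⟩, hfree, ?_⟩
  · obtain ⟨a, v, rfl⟩ := hdec y
    have hv : v = 0 := hgh (by simpa [hgf a] using hy)
    exact ⟨a, by simp [hv]⟩
  · obtain ⟨s, hs⟩ := Module.projective_lifting_property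
      (LinearMap.range g).mkQ LinearMap.id (Submodule.mkQ_surjective _)
    let e : ((Fin (finrank (ResidueField R) (LinearMap.range gb)) → R) × (C ⧸ LinearMap.range g)) ≃ₗ[R] C :=
      LinearEquiv.ofBijective ((g ∘ₗ h).coprod s) <| by
        refine ⟨(injective_iff_map_eq_zero _).2 ?_, fun c => ?_⟩
        · rintro ⟨v, q⟩ hvq
          have hq : q = 0 := by
            have := congrArg (LinearMap.range g).mkQ hvq
            rw [map_zero, LinearMap.coprod_apply, map_add,
              (Submodule.Quotient.mk_eq_zero _).2 (by rw [hrange]; exact ⟨v, rfl⟩ :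
                (g ∘ₗ h) v ∈ LinearMap.range g) |> fun t => (show (LinearMap.range g).mkQ _ = 0 from t),
              zero_add, ← LinearMap.comp_apply, hs] at this
            exact this
          subst hq
          have : v = 0 := hgh (by simpa using hvq)
          simp [this]
        · let q := (LinearMap.range g).mkQ c
          have hc : c - s q ∈ LinearMap.range g := by
            rw [← Submodule.Quotient.mk_eq_zero]
            change (LinearMap.range g).mkQ (c - s q) = 0
            rw [map_sub, ← LinearMap.comp_apply, hs]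
            exact sub_self _
          obtain ⟨v, hv⟩ := hrange.le hc
          exact ⟨(v, q), by rw [LinearMap.coprod_apply, hv]; abel⟩
    haveI := hfree
    rw [← e.finrank_eq, Module.finrank_prod, Module.finrank_pi, Fintype.card_fin]
    exact add_comm _ _

end Groth.Agent.KFlatLib
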