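import Groth.Agent.KFlatLib.Perfect.BettiCor
import Groth.Agent.KFlatLib.Perfect.LocExact
import Groth.Agent.KFlatLib.Perfect.Top
import Mathlib.Algebra.Category.ModuleCat.Kernels
import Mathlib.Algebra.Homology.DerivedCategory.ExactFunctor
import Mathlib.Algebra.Homology.DerivedCategory.TStructure

/-!
# The locus where a perfect complex is a locally free module in one degree
-/

set_option linter.style.haveILetI false

universe u

open CategoryTheory CategoryTheory.Limits AlgebraicGeometry Module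

attribute [local instance] HasDerivedCategory.standard

namespace Groth.Agent.KFlatLib

variable {X U : Scheme.{u}}

lemma finite_free_stalk_freeMod (y : U) (n : ℕ) :
    Module.Free (U.presheaf.stalk y) ((DerSch.stalkFunctor U y).obj (FlatMod.freeMod U n)) ∧
    Module.Finite (U.presheaf.stalk y) ((DerSch.stalkFunctor U y).obj (FlatMod.freeMod U n)) ∧
    finrank (U.presheaf.stalk y) ((DerSch.stalkFunctor U y).obj (FlatMod.freeMod U n)) = n :=
  ⟨Module.Free.of_basis (eBasis y n), Module.Finite.of_basis (eBasis y n),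
    (finrank_eq_card_basis (eBasis y n)).trans (Fintype.card_fin n)⟩

/-- A free complex whose fibre is exact in a degree is exact there, with free cokernel after it. -/
lemma exact_free_stalk (y : U) {P : CochainComplex U.Modules ℤ} {n : ℤ → ℕ}
    (e : ∀ i, P.X i ≅ FlatMod.freeMod U (n i)) (a i b : ℤ)
    (hrk : rkAt (dMat e a i) y + rkAt (dMat e i b) y = n i) :
    ((P.sc' a i b).map (DerSch.stalkFunctor U y)).Exact ∧
      Module.Free (U.presheaf.stalk y) ((DerSch.stalkFunctor U y).obj (cokernel (P.d i b))) ∧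
      finrank (U.presheaf.stalk y) ((DerSch.stalkFunctor U y).obj (cokernel (P.d i b))) +
        rkAt (dMat e i b) y = n b := by
  let st := DerSch.stalkFunctor U y
  haveI : IsLocalHom (U.residue y).hom := inferInstanceAs (IsLocalHom (IsLocalRing.residue _))
  let S : ShortComplex U.Modules := ShortComplex.mk ((e a).inv ≫ P.d a i ≫ (e i).hom)
    ((e i).inv ≫ P.d i b ≫ (e b).hom) (by simp)
  let eS : P.sc' a i b ≅ S := ShortComplex.isoMk (e a) (e i) (e b)
    (Iso.hom_inv_id_assoc (e a) _) (Iso.hom_inv_id_assoc (e i) _)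
  haveI := (finite_free_stalk_freeMod y (n i)).1
  haveI := (finite_free_stalk_freeMod y (n i)).2.1
  haveI := (finite_free_stalk_freeMod y (n b)).1
  haveI := (finite_free_stalk_freeMod y (n b)).2.1
  let R := U.presheaf.stalk y
  let k := IsLocalRing.ResidueField R
  have hr : ∀ {p q : ℕ} (d : FlatMod.freeMod U p ⟶ FlatMod.freeMod U q),
      finrank (IsLocalRing.ResidueField (U.presheaf.stalk y))
        (LinearMap.range ((st.map d).hom.baseChange (IsLocalRing.ResidueField (U.presheaf.stalk y)))) =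
        rkAt (secMat d) y := fun d =>
    (finrank_range_extend y d (IsLocalRing.residue (U.presheaf.stalk y))).trans
      (rank_map_eq_rkAt (secMat d) y (IsLocalRing.residue (U.presheaf.stalk y)))
  obtain ⟨hex, hfree, hfin⟩ := exact_of_fibre
    (R := U.presheaf.stalk y) (A := ((DerSch.stalkFunctor U y).obj (FlatMod.freeMod U (n a)) : Type u))
    (B := ((DerSch.stalkFunctor U y).obj (FlatMod.freeMod U (n i)) : Type u))
    (C := ((DerSch.stalkFunctor U y).obj (FlatMod.freeMod U (n b)) : Type u))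
    (f := (st.map ((e a).inv ≫ P.d a i ≫ (e i).hom)).hom)
    (g := (st.map ((e i).inv ≫ P.d i b ≫ (e b).hom)).hom)
    ((ModuleCat.hom_comp _ _).symm.trans (congrArg ModuleCat.Hom.hom (S.map st).zero))
    (by
      refine (congrArg₂ (· + ·) (hr _) (hr _)).trans (hrk.trans ?_)
      rw [Module.finrank_baseChange]
      exact (finite_free_stalk_freeMod y (n i)).2.2.symm)
  refine ⟨ShortComplex.exact_of_iso (st.mapShortComplex.mapIso eS).symm
    ((ShortComplex.ShortExact.moduleCat_exact_iff_function_exact _).2 hex), ?_⟩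
  let c : st.obj (cokernel (P.d i b)) ≅
      ModuleCat.of (U.presheaf.stalk y) ((S.map st).X₃ ⧸ LinearMap.range (S.map st).g.hom) :=
    st.mapIso (cokernel.mapIso (P.d i b) ((e i).inv ≫ P.d i b ≫ (e b).hom) (e i) (e b)
        (Iso.hom_inv_id_assoc (e i) _).symm) ≪≫
      PreservesCokernel.iso st _ ≪≫ ModuleCat.cokernelIsoRangeQuotient _
  refine ⟨Module.Free.of_equiv' hfree c.toLinearEquiv.symm, ?_⟩
  rw [show finrank (U.presheaf.stalk y) (st.obj (cokernel (P.d i b))) = _ from
    c.toLinearEquiv.finrank_eq]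
  have h3 := hr ((e i).inv ≫ P.d i b ≫ (e b).hom)
  exact ((congrArg (_ + ·) h3.symm).trans hfin).trans (finite_free_stalk_freeMod y (n b)).2.2

/-- The expected fibre dimensions. -/
def bettiTarget (i : ℤ) (r : ℕ) (k : ℤ) : ℕ := if k = i then r else 0

variable {E : DCoh.D X}

lemma isZero_HD_of_betti [∀ x : X, DCoh.HasLpull (X.fromSpecResidueField x)] (hE : DCoh.IsPerfect E)
    {k : ℤ} (h : ∀ x, PerfD.betti E x k = 0) : IsZero (DCoh.HD E k) := by
  refine isZero_of_stalk _ fun x => ?_
  obtain ⟨U, j, _, ⟨y, rfl⟩, P, a, b, hab, hfree, ⟨eE⟩⟩ := exists_free_rep hE x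
  obtain ⟨n, e, hP, -⟩ := exists_free_bounded hab hfree
  have hf := betti_formula E (j.base y) j y rfl hP e eE.hom (isPcMap_of_isIso (k - 1) eE.hom)
    (k - 1) k (k + 1) (by omega) rfl (by omega)
  rw [h] at hf
  obtain ⟨hex, -, -⟩ := exact_free_stalk y e (k - 1) k (k + 1) (by omega)
  haveI : (DerSch.stalkFunctor U y).PreservesHomology :=
    Functor.preservesHomology_of_map_exact _ fun S hS => (exact_iff_stalk S).1 hS y
  have hz : IsZero ((DerSch.stalkFunctor U y).obj ((DCoh.HD E k).restrict j)) := by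
    refine IsZero.of_iso ((ShortComplex.exact_iff_isZero_homology _).1 hex) ?_
    exact (DerSch.stalkFunctor U y).mapIso ((hdRhoIso j E k).symm ≪≫
      (DerivedCategory.homologyFunctor _ k).mapIso eE.symm ≪≫
      (DerivedCategory.homologyFunctorFactors _ k).app P ≪≫
      P.homologyIsoSc' (k - 1) k (k + 1) (by simp) (by simp)) ≪≫
      ((P.sc' (k - 1) k (k + 1)).mapHomologyIso _).symm
  haveI := ModuleCat.subsingleton_of_isZero hz
  refine ModuleCat.isZero_of_iff_subsingleton.2 ?_
  let eAb := (Scheme.Modules.restrictStalkNatIso j y).app (DCoh.HD E k)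
  exact @Equiv.subsingleton _ _ eAb.addCommGroupIsoToAddEquiv.symm.toEquiv ‹_›

/-- A locally free module in degree `i` has the expected fibre dimensions. -/
lemma betti_single [∀ x : X, DCoh.HasLpull (X.fromSpecResidueField x)] {V : X.Modules} {r : ℕ}
    (x : X) {W : X.Opens} (hx : x ∈ W) (e : V.restrict W.ι ≅ FlatMod.freeMod (W : Scheme.{u}) r)
    {i : ℤ} {K : DCoh.D X} (eK : K ≅ (DCoh.inD X V)⟦-i⟧) (k : ℤ) :
    PerfD.betti K x k = bettiTarget i r k := by
  let P : CochainComplex (W : Scheme.{u}).Modules ℤ :=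
    (HomologicalComplex.single _ (ComplexShape.up ℤ) i).obj (FlatMod.freeMod (W : Scheme.{u}) r)
  let n : ℤ → ℕ := bettiTarget i r
  have hz : ∀ l, l ≠ i → IsZero (P.X l) := fun l hl =>
    HomologicalComplex.isZero_single_obj_X _ _ _ _ hl
  let eP : ∀ l, P.X l ≅ FlatMod.freeMod (W : Scheme.{u}) (n l) := fun l =>
    if hl : l = i then
      eqToIso (congrArg P.X hl) ≪≫ HomologicalComplex.singleObjXSelf (ComplexShape.up ℤ) i _ ≪≫
        eqToIso (by simp [n, bettiTarget, hl])
    else (hz l hl).iso isZero_freeMod_zero ≪≫ eqToIso (by simp [n, bettiTarget, hl])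
  have hP : DCoh.IsKFlat P := isKFlat_of_vanishesOutside (a := i) (b := i)
    (fun l hl => hz l (by omega)) fun l => IsFlat.of_iso (eP l).symm (isFlat_freeMod _)
  let α : DerivedCategory.Q.obj P ≅ (rho W.ι).obj K :=
    (DerivedCategory.singleFunctor _ i).mapIso e.symm ≪≫
      ((Scheme.Modules.restrictFunctor W.ι).mapDerivedCategorySingleFunctor i).symm.app V ≪≫
      (rho W.ι).mapIso ((((DerivedCategory.singleFunctors X.Modules).shiftIso (-i) i 0
        (by omega)).app V).symm ≪≫ eK.symm)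
  have hf := betti_formula K x W.ι ⟨x, hx⟩ rfl hP eP α.hom (isPcMap_of_isIso (k - 1) α.hom)
    (k - 1) k (k + 1) (by omega) rfl (by omega)
  have h1 : rkAt (dMat eP (k - 1) k) (⟨x, hx⟩ : (W : Scheme.{u})) = 0 := by
    have hh : rkAt (dMat eP (k - 1) k) (⟨x, hx⟩ : (W : Scheme.{u})) ≤ n k ∧
        rkAt (dMat eP (k - 1) k) (⟨x, hx⟩ : (W : Scheme.{u})) ≤ n (k - 1) :=
      ⟨Matrix.rank_le_height _, Matrix.rank_le_width _⟩
    rcases eq_or_ne k i with h | h <;> simp [n, bettiTarget, h] at hh ⊢ <;> omega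
  have h2 : rkAt (dMat eP k (k + 1)) (⟨x, hx⟩ : (W : Scheme.{u})) = 0 := by
    have hh : rkAt (dMat eP k (k + 1)) (⟨x, hx⟩ : (W : Scheme.{u})) ≤ n (k + 1) ∧
        rkAt (dMat eP k (k + 1)) (⟨x, hx⟩ : (W : Scheme.{u})) ≤ n k :=
      ⟨Matrix.rank_le_height _, Matrix.rank_le_width _⟩
    rcases eq_or_ne k i with h | h <;> simp [n, bettiTarget, h] at hh ⊢ <;> omega
  rw [h1, h2, add_zero, add_zero] at hf
  exact hf

/-- A perfect complex with fibres concentrated in one degree is locally free in that degree. -/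
lemma exists_locFree_of_betti [∀ x : X, DCoh.HasLpull (X.fromSpecResidueField x)]
    (hE : DCoh.IsPerfect E) (i : ℤ) (r : ℕ)
    (h : ∀ x k, PerfD.betti E x k = bettiTarget i r k) :
    ∃ V : X.Modules, FlatMod.IsFinLocFreeOfRank r V ∧ Nonempty (E ≅ (DCoh.inD X V)⟦-i⟧) := by
  have hz : ∀ k, k ≠ i → IsZero (DCoh.HD E k) := fun k hk =>
    isZero_HD_of_betti hE fun x => (h x k).trans (if_neg hk)
  haveI : E.IsGE i := (DerivedCategory.isGE_iff E i).2 fun k hk => hz k hk.ne
  haveI : E.IsLE i := (DerivedCategory.isLE_iff E i).2 fun k hk => hz k hk.ne'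
  obtain ⟨V, ⟨e₀⟩⟩ := DerivedCategory.exists_iso_singleFunctor_obj_of_isGE_of_isLE E i
  let eE : E ≅ (DCoh.inD X V)⟦-i⟧ := e₀ ≪≫
    (((DerivedCategory.singleFunctors X.Modules).shiftIso (-i) i 0 (by omega)).app V).symm
  have hV : FlatMod.IsFinLocFree V := isFinLocFree_of_restrict fun x => by
    obtain ⟨U, j, _, hx, P₀, hP₀, ⟨eP₀⟩⟩ := (isPerfect_iff E).1 hE x
    obtain ⟨a₀, b₀, hab₀⟩ := hP₀.1
    obtain ⟨P', hP', hz', -, ⟨e'⟩⟩ := exists_cutoff i (max b₀ i - i).toNat P₀ hP₀
      (fun k hk => hab₀ k (Or.inr (by omega))) (fun k hk =>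
        (((Scheme.Modules.restrictFunctor j).map_isZero (hz k hk.ne')).of_iso
          (hdRhoIso j E k)).of_iso (((DerivedCategory.homologyFunctorFactors _ k).app P₀).symm ≪≫
            (DerivedCategory.homologyFunctor U.Modules k).mapIso eP₀))
    obtain ⟨a, b, hab⟩ := hP'.1
    obtain ⟨u', rfl⟩ := hx
    obtain ⟨W, hW, hfree⟩ := exists_free_nhd hab hP'.2 u'
    let j' := W.ι ≫ j
    let P := (rCx W.ι).obj P'
    let eP : DerivedCategory.Q.obj P ≅ (rho j').obj E :=
      ((rhoQ W.ι).app P').symm ≪≫ (rho W.ι).mapIso (e' ≪≫ eP₀) ≪≫ rhoComp W.ι j _ rfl E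
    have habP : DCoh.VanishesOutside P (min a i) i := by
      rintro k (hk | hk)
      · exact (Scheme.Modules.restrictFunctor W.ι).map_isZero (hab k (Or.inl (by omega)))
      · exact (Scheme.Modules.restrictFunctor W.ι).map_isZero (hz' k hk)
    obtain ⟨n, e, hP, hn⟩ := exists_free_bounded habP hfree
    have hrk : ∀ y k, k ≠ i →
        rkAt (dMat e (k - 1) k) y + rkAt (dMat e k (k + 1)) y = n k := fun y k hk => by
      have hf := betti_formula E (j'.base y) j' y rfl hP e eP.hom
        (isPcMap_of_isIso (k - 1) eP.hom) (k - 1) k (k + 1) (by omega) rfl (by omega)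
      rw [h, bettiTarget, if_neg hk, zero_add] at hf
      exact hf
    have hfl : ∀ k, k + 1 = i → FlatMod.IsFlat (cokernel (P.d k i)) := fun k hk y => by
      subst hk
      haveI := (exact_free_stalk y e (k - 1) k (k + 1) (hrk y k (by omega))).2.1
      exact (inferInstance : Module.Flat ((W : Scheme.{u}).presheaf.stalk y)
        ((DerSch.stalkFunctor (W : Scheme.{u}) y).obj (cokernel (P.d k (k + 1))) : Type u))
    haveI : IsIso (P.homologyι i) :=
      P.isIso_homologyι i (i + 1) (by simp) ((habP (i + 1) (Or.inr (by omega))).eq_of_tgt _ _)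
    let c₀ := IsColimit.coconePointUniqueUpToIso (cokernelIsCokernel (P.d (i - 1) i))
      (P.opcyclesIsCokernel (i - 1) i (by simp))
    let c : cokernel (P.d (i - 1) i) ≅ V.restrict j' :=
      c₀ ≪≫ (asIso (P.homologyι i)).symm ≪≫
        ((DerivedCategory.homologyFunctorFactors _ i).app P).symm ≪≫
        (DerivedCategory.homologyFunctor _ i).mapIso (eP ≪≫ (rho j').mapIso e₀) ≪≫
        hdRhoIso j' _ i ≪≫ (Scheme.Modules.restrictFunctor j').mapIso
          ((DerivedCategory.singleFunctorCompHomologyFunctorIso X.Modules i).app V)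
    have hW' : FlatMod.IsFinLocFree (V.restrict j') := H23.PullPush.isFinLocFree_of_iso c
      (isFinLocFree_cokernel _
        (H23.PullPush.isFinLocFree_of_iso (e (i - 1)).symm (fun x => isFinLocFree_freeMod _ x))
        (H23.PullPush.isFinLocFree_of_iso (e i).symm (fun x => isFinLocFree_freeMod _ x))
        (hfl (i - 1) (by omega)))
    exact ⟨j'.opensRange, ⟨⟨u', hW⟩, rfl⟩, H23.PullPush.isFinLocFree_of_iso
      ((restrict₂Iso (rangeHom j') j' j'.opensRange.ι (rangeHom_fac j') V))
      (H23.PullPush.isFinLocFree_of_iso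
        ((Scheme.Modules.restrictFunctorIsoPullback (rangeHom j')).symm.app _)
        (isFinLocFree_pullback (rangeHom j') hW'))⟩
  refine ⟨V, fun x => ?_, ⟨eE⟩⟩
  obtain ⟨W, n, hx, ⟨e⟩⟩ := hV x
  have hr : n = r := by
    have h1 := betti_single x hx e eE i
    rw [h, bettiTarget, bettiTarget, if_pos rfl, if_pos rfl] at h1
    exact h1.symm
  subst hr
  exact ⟨W, hx, ⟨e⟩⟩

lemma isOpen_bettiLocus [∀ x : X, DCoh.HasLpull (X.fromSpecResidueField x)]
    (hE : DCoh.IsPerfect E) (i : ℤ) (r : ℕ) :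
    IsOpen {x : X | ∀ k, PerfD.betti E x k = bettiTarget i r k} := by
  refine isOpen_iff_forall_mem_open.2 fun x hx => ?_
  obtain ⟨U, j, _, hxU, P, a, b, hab, hfree, ⟨eE⟩⟩ := exists_free_rep hE x
  obtain ⟨n, e, hP, hn⟩ := exists_free_bounded hab hfree
  have hpc : ∀ m, LocPC m E := fun m => ((isPerfect_iff E).1 hE).locPC m
  let S : Set X := Set.range j.base ∩
    (⋂ k ∈ insert i (Finset.Icc a b), {z | PerfD.betti E z k < bettiTarget i r k + 1}) ∩
    {z | PerfD.eulerChar E z = PerfD.eulerChar E x}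
  refine ⟨S, ?_, (j.isOpenEmbedding.isOpen_range.inter (isOpen_biInter_finset fun k _ =>
    isOpen_betti_lt E (hpc (k - 1)) (sub_one_lt k) _)).inter
    ((isLocallyConstant_eulerChar E hE) {PerfD.eulerChar E x}), ⟨⟨hxU, ?_⟩, rfl⟩⟩
  · rintro z ⟨⟨⟨w, rfl⟩, hz⟩, hχ⟩
    simp only [Set.mem_iInter] at hz
    have hzero : ∀ k, k ≠ i → PerfD.betti E (j.base w) k = 0 := fun k hk => by
      by_cases hkab : k ∈ Finset.Icc a b
      · have hlt := hz k (Finset.mem_insert_of_mem hkab)
        simp only [Set.mem_setOf_eq, bettiTarget, if_neg hk] at hlt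
        omega
      · have hf := betti_formula E (j.base w) j w rfl hP e eE.hom
          (isPcMap_of_isIso (k - 1) eE.hom) (k - 1) k (k + 1) (by omega) rfl (by omega)
        have := hn k (by simp at hkab; omega)
        omega
    have hz' : PerfD.eulerChar E (j.base w) = (i.negOnePow : ℤ) * PerfD.betti E (j.base w) i :=
      finsum_eq_single _ i fun k hk => by rw [hzero k hk]; simp
    have hx' : PerfD.eulerChar E x = (i.negOnePow : ℤ) * PerfD.betti E x i :=
      finsum_eq_single _ i fun k hk => by rw [hx k, bettiTarget, if_neg hk]; simp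
    intro k
    by_cases hk : k = i
    · subst hk
      have hχ' : PerfD.eulerChar E (j.base w) = PerfD.eulerChar E x := hχ
      rw [hz', hx'] at hχ'
      have := mul_left_cancel₀ (Units.ne_zero k.negOnePow) hχ'
      rw [← hx k]
      exact_mod_cast this
    · rw [hzero k hk, bettiTarget, if_neg hk]
  · simp only [Set.mem_iInter, Set.mem_setOf_eq]
    intro k _
    rw [hx k]
    omega

/-- The open locus where a perfect complex is locally free of rank `r` in degree `i`. -/
lemma exists_locus (hE : DCoh.IsPerfect E) (i : ℤ) (r : ℕ) :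
    ∃ U : X.Opens, ∀ (Y : Scheme.{u}) (f : Y ⟶ X) [DCoh.HasLpull f],
      Set.range f.base ⊆ (U : Set X) ↔
        ∃ V : Y.Modules, FlatMod.IsFinLocFreeOfRank r V ∧
          Nonempty ((DCoh.Lpull f).obj E ≅ (DCoh.inD Y V)⟦-i⟧) := by
  haveI : ∀ x : X, DCoh.HasLpull (X.fromSpecResidueField x) := fun x => hasLpull _
  refine ⟨⟨_, isOpen_bettiLocus hE i r⟩, fun Y f _ => ?_⟩
  haveI : ∀ y : Y, DCoh.HasLpull (Y.fromSpecResidueField y) := fun y => hasLpull _
  have hb : ∀ y k, PerfD.betti ((DCoh.Lpull f).obj E) y k = PerfD.betti E (f.base y) k := by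
    intro y k
    obtain ⟨U, j, _, ⟨y', hy⟩, P, a, b, hab, hfree, ⟨eE⟩⟩ := exists_free_rep hE (f.base y)
    obtain ⟨n, e, hP, -⟩ := exists_free_bounded hab hfree
    exact betti_lpull f E y j y' hy hP e eE.hom (isPcMap_of_isIso (k - 1) eE.hom) (sub_one_lt k)
  constructor
  · intro h
    exact exists_locFree_of_betti (isPerfect_lpull f hE) i r fun y k =>
      (hb y k).trans (h ⟨y, rfl⟩ k)
  · rintro ⟨V, hV, ⟨eV⟩⟩ _ ⟨y, rfl⟩ k
    obtain ⟨W, hy, ⟨e⟩⟩ := hV y
    exact (hb y k).symm.trans (betti_single y hy e eV k)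

end Groth.Agent.KFlatLib
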