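import Groth.Agent.KFlatLib.Perfect.Local
import Groth.Prelude.Def_DCoh3

/-!
# Local lifting of maps out of strictly perfect complexes
-/

set_option linter.style.haveILetI false

universe u

open CategoryTheory CategoryTheory.Limits AlgebraicGeometry CochainComplex CochainComplex.HomComplex

attribute [local instance] HasDerivedCategory.standard

namespace Groth.Agent.KFlatLib

section Abelian

variable {C : Type*} [Category C] [Abelian C] {E F G : CochainComplex C ℤ} (f : G ⟶ F) (α : E ⟶ F)

/-- A null homotopy of `α` followed by the inclusion in the cone of `f` gives a lift of `α`. -/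
lemma exists_lift_of_homotopy (H : Homotopy (α ≫ mappingCone.inr f) 0) :
    ∃ β : E ⟶ G, Nonempty (Homotopy (β ≫ f) α) := by
  let z := Cochain.ofHomotopy H
  have hz : δ (-1) 0 z = Cochain.ofHom (α ≫ mappingCone.inr f) := by
    rw [δ_ofHomotopy, Cochain.ofHom_zero, sub_zero]
  let b := z.comp (mappingCone.fst f).1 (show (-1 : ℤ) + 1 = 0 by omega)
  have hb : δ 0 1 b = 0 := by
    rw [δ_comp _ _ (show (-1 : ℤ) + 1 = 0 by omega) 0 2 1 (zero_add 1) rfl rfl, hz,
      Cochain.ofHom_comp, Cochain.comp_assoc_of_first_is_zero_cochain, mappingCone.inr_fst,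
      Cochain.comp_zero, smul_zero, add_zero, Cocycle.δ_eq_zero, Cochain.comp_zero]
  let β : E ⟶ G := Cocycle.homOf (Cocycle.mk b 1 (zero_add 1) hb)
  have hβ : Cochain.ofHom β = b :=
    congrArg Subtype.val (Cocycle.ofHom_homOf_eq_self (Cocycle.mk b 1 (zero_add 1) hb))
  refine ⟨β, ⟨(Cochain.equivHomotopy _ _).symm ⟨-(z.comp (mappingCone.snd f) (add_zero (-1))), ?_⟩⟩⟩
  rw [δ_neg, δ_comp _ _ (add_zero (-1)) 0 1 0 (by omega) (by omega) (zero_add 1), hz,
    mappingCone.δ_snd, Cochain.comp_neg, Cochain.ofHom_comp β f, hβ,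
    Cochain.ofHom_comp α (mappingCone.inr f), Cochain.comp_assoc_of_first_is_zero_cochain,
    mappingCone.inr_snd,
    ← Cochain.ofHom_comp, Category.comp_id]
  simp [b, Cochain.comp_assoc_of_third_is_zero_cochain]

end Abelian

variable {X : Scheme.{u}}

/-- Restriction of complexes respects the cone criterion. -/
lemma isPcMap_of_homologyMap {C : Type*} [Category C] [Abelian C] (m : ℤ)
    {F G : CochainComplex C ℤ} (f : F ⟶ G)
    (h : ∀ i, m < i → IsIso (HomologicalComplex.homologyMap f i))
    (h' : Epi (HomologicalComplex.homologyMap f m)) : IsPcMap m (DerivedCategory.Q.map f) := by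
  refine ⟨fun i hi => ?_, ?_⟩
  · exact (NatIso.isIso_map_iff (DerivedCategory.homologyFunctorFactors C i) f).2 (h i hi)
  · haveI : Epi ((HomologicalComplex.homologyFunctor C (ComplexShape.up ℤ) m).map f) := h'
    change Epi ((DerivedCategory.Q ⋙ DerivedCategory.homologyFunctor C m).map f)
    rw [← NatIso.naturality_2 (DerivedCategory.homologyFunctorFactors C m) f]
    exact epi_comp _ _

/-- Maps out of strictly perfect complexes lift locally, up to homotopy. -/
lemma exists_lift_homotopy {E F G : CochainComplex X.Modules ℤ} (α : E ⟶ F) (f : G ⟶ F)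
    (hE : DCoh.IsStrictlyPerfect E) (a : ℤ) (hEa : ∀ j : ℤ, j < a → IsZero (E.X j))
    (hf : IsPcMap a (DerivedCategory.Q.map f)) (x : X) :
    ∃ (V : X.Opens) (β : (DCoh.restrictCx V).obj E ⟶ (DCoh.restrictCx V).obj G), x ∈ V ∧
      Nonempty (Homotopy (β ≫ (DCoh.restrictCx V).map f) ((DCoh.restrictCx V).map α)) := by
  obtain ⟨V, hx, ⟨H⟩⟩ :=
    exists_nullHomotopy (α ≫ mappingCone.inr f) hE a hEa ((isPcMap_iff_cone a f).1 hf) x
  let R := Scheme.Modules.restrictFunctor V.ι
  obtain ⟨β, hβ⟩ := exists_lift_of_homotopy ((DCoh.restrictCx V).map f) ((DCoh.restrictCx V).map α)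
    ((Homotopy.ofEq (by
        rw [Functor.map_comp, Category.assoc, mappingCone.map_inr])).trans
      ((H.compRight (mappingCone.mapHomologicalComplexIso f R).hom).trans
        (Homotopy.ofEq zero_comp)))
  exact ⟨V, β, hx, hβ⟩

/-- Homotopic maps are equal in the derived category. -/
lemma Q_map_eq_of_homotopy {C : Type*} [Category C] [Abelian C]
    {F G : CochainComplex C ℤ} {φ ψ : F ⟶ G} (h : Homotopy φ ψ) :
    DerivedCategory.Q.map φ = DerivedCategory.Q.map ψ :=
  congrArg DerivedCategory.Qh.map (HomotopyCategory.eq_of_homotopy _ _ h)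

/-- Maps in `D(X)` out of strictly perfect complexes are locally maps of complexes. -/
lemma exists_chain_rep {E F : CochainComplex X.Modules ℤ} (hE : DCoh.IsStrictlyPerfect E)
    (α : DCoh.toD X E ⟶ DCoh.toD X F) (x : X) :
    ∃ (V : X.Opens) (β : (DCoh.restrictCx V).obj E ⟶ (DCoh.restrictCx V).obj F), x ∈ V ∧
      (Scheme.Modules.restrictFunctor V.ι).mapDerivedCategory.map α =
        (Scheme.Modules.restrictFunctor V.ι).mapDerivedCategoryFactors.hom.app E ≫
          DerivedCategory.Q.map β ≫
            (Scheme.Modules.restrictFunctor V.ι).mapDerivedCategoryFactors.inv.app F := by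
  obtain ⟨F', g, s, hs, hfac⟩ := DerivedCategory.left_fac α
  haveI := hs
  obtain ⟨⟨a, b, hab⟩, hf⟩ := hE
  obtain ⟨V, β, hx, ⟨H⟩⟩ := exists_lift_homotopy g s ⟨⟨a, b, hab⟩, hf⟩ a
    (fun j hj => hab j (Or.inl hj)) ⟨fun i _ => inferInstance, inferInstance⟩ x
  refine ⟨V, β, hx, ?_⟩
  let φ := (Scheme.Modules.restrictFunctor V.ι).mapDerivedCategoryFactors
  have h := Q_map_eq_of_homotopy H
  rw [Functor.map_comp] at h
  have hs' := φ.hom.naturality s
  have hg := φ.hom.naturality g
  dsimp at hs' hg
  haveI : IsIso ((Scheme.Modules.restrictFunctor V.ι).mapDerivedCategory.map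
      (DerivedCategory.Q.map s)) := inferInstance
  rw [hfac, Functor.map_comp, Functor.map_inv, IsIso.comp_inv_eq]
  have hs'' : φ.inv.app F ≫ (Scheme.Modules.restrictFunctor V.ι).mapDerivedCategory.map
      (DerivedCategory.Q.map s) = DerivedCategory.Q.map ((DCoh.restrictCx V).map s) ≫ φ.inv.app F' :=
    (φ.inv.naturality s).symm
  simp only [Category.assoc]
  rw [hs'', reassoc_of% h, ← reassoc_of% hg, Iso.hom_inv_id_app]
  exact (Category.comp_id _).symm

end Groth.Agent.KFlatLib
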