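import Groth.Agent.KFlatLib.Perfect.Lift
import Mathlib.CategoryTheory.Abelian.DiagramLemmas.Four
import Mathlib.Algebra.Homology.DerivedCategory.ExactFunctor
import Mathlib.Algebra.Homology.ShortComplex.Exact

/-!
# Maps of triangles, exact functors and stupid truncations
-/

set_option linter.style.haveILetI false

universe u

open CategoryTheory CategoryTheory.Limits CategoryTheory.Pretriangulated

attribute [local instance] HasDerivedCategory.standard

namespace Groth.Agent.KFlatLib

variable {C : Type*} [Category C] [Abelian C]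

lemma IsPcMap.mono {m m' : ℤ} {A B : DerivedCategory C} {α : A ⟶ B} (h : IsPcMap m α)
    (hm : m ≤ m') : IsPcMap m' α := by
  refine ⟨fun i hi => h.1 i (by omega), ?_⟩
  rcases eq_or_lt_of_le hm with h' | h'
  · exact h' ▸ h.2
  · haveI := h.1 m' h'
    infer_instance

lemma isPcMap_of_isIso (m : ℤ) {A B : DerivedCategory C} (α : A ⟶ B) [IsIso α] : IsPcMap m α :=
  ⟨fun _ _ => inferInstance, inferInstance⟩

lemma IsPcMap.comp {m : ℤ} {A B B' : DerivedCategory C} {α : A ⟶ B} (h : IsPcMap m α)
    {β : B ⟶ B'} (h' : IsPcMap m β) : IsPcMap m (α ≫ β) := by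
  refine ⟨fun i hi => ?_, ?_⟩
  · haveI := h.1 i hi
    haveI := h'.1 i hi
    rw [Functor.map_comp]
    infer_instance
  · haveI := h.2
    haveI := h'.2
    rw [Functor.map_comp]
    exact epi_comp _ _

/-- Shifting. -/
lemma IsPcMap.shift {m : ℤ} {A B : DerivedCategory C} {α : A ⟶ B} (h : IsPcMap m α) (n : ℤ) :
    IsPcMap (m - n) (α⟦n⟧') := by
  let e := fun i => (DerivedCategory.homologyFunctor C 0).shiftIso n i (n + i) rfl
  refine ⟨fun i hi => (NatIso.isIso_map_iff (e i) α).2 (h.1 (n + i) (by omega)), ?_⟩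
  haveI : Epi (((DerivedCategory.homologyFunctor C 0).shift (n + (m - n))).map α) := by
    rw [show n + (m - n) = m by omega]
    exact h.2
  change Epi ((shiftFunctor (DerivedCategory C) n ⋙
    (DerivedCategory.homologyFunctor C 0).shift (m - n)).map α)
  rw [← NatIso.naturality_2 (e (m - n)) α]
  infer_instance

/-- In a map of distinguished triangles, the third map inherits the cohomological condition. -/
lemma isPcMap_hom₃ {T T' : Triangle (DerivedCategory C)} (hT : T ∈ distinguishedTriangles)
    (hT' : T' ∈ distinguishedTriangles) (φ : T ⟶ T') {m : ℤ}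
    (h₁ : IsPcMap (m + 1) φ.hom₁) (h₂ : IsPcMap m φ.hom₂) : IsPcMap m φ.hom₃ := by
  let H := DerivedCategory.homologyFunctor C
  have w₁ : ∀ i, (H i).map T.mor₁ ≫ (H i).map φ.hom₂ = (H i).map φ.hom₁ ≫ (H i).map T'.mor₁ :=
    fun i => by rw [← Functor.map_comp, ← Functor.map_comp, φ.comm₁]
  have w₂ : ∀ i, (H i).map T.mor₂ ≫ (H i).map φ.hom₃ = (H i).map φ.hom₂ ≫ (H i).map T'.mor₂ :=
    fun i => by rw [← Functor.map_comp, ← Functor.map_comp, φ.comm₂]
  have w₃ : ∀ i j (h : i + 1 = j), DerivedCategory.HomologySequence.δ T i j h ≫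
      (H j).map φ.hom₁ = (H i).map φ.hom₃ ≫ DerivedCategory.HomologySequence.δ T' i j h :=
    fun i j h => ((DerivedCategory.homologyFunctor C 0).homologySequenceδ_naturality T T' φ i j h).symm
  have he : ∀ i, m ≤ i → Epi ((H i).map φ.hom₃) := fun i hi => by
    have hb : Epi ((H i).map φ.hom₂) := (h₂.mono hi).2
    have ha : Epi ((H (i + 1)).map φ.hom₁) := (h₁.mono (by omega : m + 1 ≤ i + 1)).2
    haveI := h₂.1 (i + 1) (by omega)
    refine Abelian.epi_of_epi_of_epi_of_mono'
      (ComposableArrows.homMk₃ ((H i).map φ.hom₂) ((H i).map φ.hom₃) ((H (i + 1)).map φ.hom₁)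
        ((H (i + 1)).map φ.hom₂) (w₂ i) (w₃ i (i + 1) rfl) (w₁ (i + 1)) :
        ComposableArrows.mk₃ ((H i).map T.mor₂) (DerivedCategory.HomologySequence.δ T i (i + 1) rfl)
          ((H (i + 1)).map T.mor₁) ⟶
        ComposableArrows.mk₃ ((H i).map T'.mor₂)
          (DerivedCategory.HomologySequence.δ T' i (i + 1) rfl) ((H (i + 1)).map T'.mor₁))
      (DerivedCategory.HomologySequence.exact₁ T hT i (i + 1) rfl).exact_toComposableArrows
      (DerivedCategory.HomologySequence.exact₃ T' hT' i (i + 1) rfl).exact_toComposableArrows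
      (DerivedCategory.HomologySequence.δ_comp T' hT' i (i + 1) rfl) hb ha
      (inferInstanceAs (Mono ((H (i + 1)).map φ.hom₂)))
  refine ⟨fun i hi => ?_, he m le_rfl⟩
  haveI := he i hi.le
  haveI : Mono ((H i).map φ.hom₃) := by
    have ha : Epi ((H i).map φ.hom₁) := (h₁.mono (by omega : m + 1 ≤ i)).2
    haveI := h₂.1 i hi
    haveI := h₁.1 (i + 1) (by omega)
    exact Abelian.mono_of_epi_of_mono_of_mono'
      (ComposableArrows.homMk₃ ((H i).map φ.hom₁) ((H i).map φ.hom₂) ((H i).map φ.hom₃)
        ((H (i + 1)).map φ.hom₁) (w₁ i) (w₂ i) (w₃ i (i + 1) rfl) :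
        ComposableArrows.mk₃ ((H i).map T.mor₁) ((H i).map T.mor₂)
          (DerivedCategory.HomologySequence.δ T i (i + 1) rfl) ⟶
        ComposableArrows.mk₃ ((H i).map T'.mor₁) ((H i).map T'.mor₂)
          (DerivedCategory.HomologySequence.δ T' i (i + 1) rfl))
      (show (H i).map T.mor₁ ≫ (H i).map T.mor₂ = 0 by
        rw [← Functor.map_comp, comp_distTriang_mor_zero₁₂ _ hT, Functor.map_zero])
      (DerivedCategory.HomologySequence.exact₃ T hT i (i + 1) rfl).exact_toComposableArrows
      (DerivedCategory.HomologySequence.exact₂ T' hT' i).exact_toComposableArrows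
      ha (inferInstanceAs (Mono ((H i).map φ.hom₂)))
      (inferInstanceAs (Mono ((H (i + 1)).map φ.hom₁)))
  exact isIso_of_mono_of_epi _

section Functor

variable {C' : Type*} [Category C'] [Abelian C'] (F : C ⥤ C') [F.Additive]
  [PreservesFiniteLimits F] [PreservesFiniteColimits F]

/-- Exact functors respect the cohomological condition. -/
lemma IsPcMap.map_exact {m : ℤ} {A B : DerivedCategory C} {α : A ⟶ B} (h : IsPcMap m α) :
    IsPcMap m (F.mapDerivedCategory.map α) := by
  let eA := DerivedCategory.Q.objObjPreimageIso A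
  let eB := DerivedCategory.Q.objObjPreimageIso B
  obtain ⟨K, s, hs, φ, hfac⟩ := DerivedCategory.right_fac (eA.hom ≫ α ≫ eB.inv)
  haveI := hs
  have hφ : IsPcMap m (DerivedCategory.Q.map φ) := by
    have : DerivedCategory.Q.map φ =
        (DerivedCategory.Q.map s ≫ eA.hom) ≫ α ≫ eB.inv := by
      rw [Category.assoc, hfac, IsIso.hom_inv_id_assoc]
    rw [this]
    exact h.comp_iso _ _
  have hFφ : IsPcMap m (DerivedCategory.Q.map ((F.mapHomologicalComplex _).map φ)) := by
    refine (isPcMap_iff_cone m _).2 fun i hi => ?_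
    refine IsZero.of_iso ?_ ((HomologicalComplex.homologyFunctor C' _ i).mapIso
      (CochainComplex.mappingCone.mapHomologicalComplexIso φ F)).symm
    exact IsZero.of_iso (F.map_isZero ((isPcMap_iff_cone m φ).1 hφ i hi))
      (((CochainComplex.mappingCone φ).sc i).mapHomologyIso F)
  have hα : α = (eA.inv ≫ inv (DerivedCategory.Q.map s)) ≫ DerivedCategory.Q.map φ ≫ eB.hom := by
    have := eA.inv ≫= (hfac =≫ eB.hom)
    simpa using this
  rw [hα]
  simp only [Functor.map_comp]
  have hQ : IsPcMap m (F.mapDerivedCategory.map (DerivedCategory.Q.map φ)) := by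
    have := NatIso.naturality_2 F.mapDerivedCategoryFactors φ
    change IsPcMap m ((DerivedCategory.Q ⋙ F.mapDerivedCategory).map φ)
    rw [← this]
    exact hFφ.comp_iso _ _
  rw [← Functor.map_comp]
  exact hQ.comp_iso _ _

end Functor

section Stupid

variable (K : CochainComplex C ℤ) (n : ℤ)

open ZeroObject

/-- The terms of the stupid truncation in degrees `≥ n`. -/
noncomputable def stupidX (i : ℤ) : C := if n ≤ i then K.X i else 0

lemma stupidX_eq {i : ℤ} (h : n ≤ i) : stupidX K n i = K.X i := if_pos h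

lemma isZero_stupidX {i : ℤ} (h : ¬n ≤ i) : IsZero (stupidX K n i) := by
  rw [stupidX, if_neg h]
  exact isZero_zero C

/-- The inclusion of the stupid truncation. -/
noncomputable def stupidι (i : ℤ) : stupidX K n i ⟶ K.X i :=
  if h : n ≤ i then eqToHom (stupidX_eq K n h) else 0

instance (i : ℤ) : Mono (stupidι K n i) := by
  by_cases h : n ≤ i
  · rw [stupidι, dif_pos h]
    infer_instance
  · exact ⟨fun a b _ => (isZero_stupidX K n h).eq_of_tgt a b⟩

lemma isIso_stupidι {i : ℤ} (h : n ≤ i) : IsIso (stupidι K n i) := by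
  rw [stupidι, dif_pos h]
  infer_instance

/-- The differential of the stupid truncation. -/
noncomputable def stupidD (i j : ℤ) : stupidX K n i ⟶ stupidX K n j :=
  if h : n ≤ j then stupidι K n i ≫ K.d i j ≫ eqToHom (stupidX_eq K n h).symm else 0

lemma stupidD_ι (i j : ℤ) (h : i + 1 = j) :
    stupidD K n i j ≫ stupidι K n j = stupidι K n i ≫ K.d i j := by
  by_cases hj : n ≤ j
  · simp [stupidD, stupidι, hj]
  · exact (isZero_stupidX K n (i := i) (by omega)).eq_of_src _ _

/-- The stupid truncation in degrees `≥ n`. -/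
noncomputable def stupidGE : CochainComplex C ℤ where
  X := stupidX K n
  d := stupidD K n
  shape i j h := by
    rw [stupidD]
    split
    · rw [K.shape i j h, zero_comp, comp_zero]
    · rfl
  d_comp_d' i j k hij hjk := by
    rw [← cancel_mono (stupidι K n k), Category.assoc, stupidD_ι K n j k hjk,
      ← Category.assoc, stupidD_ι K n i j hij, Category.assoc, K.d_comp_d, comp_zero, zero_comp]

/-- The inclusion. -/
noncomputable def stupidGEι : stupidGE K n ⟶ K where
  f := stupidι K n
  comm' i j h := (stupidD_ι K n i j h).symm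

lemma isZero_stupidGE {i : ℤ} (h : i < n) : IsZero ((stupidGE K n).X i) :=
  isZero_stupidX K n (by omega)

/-- The inclusion is an isomorphism on cohomology above `n` and epi in degree `n`. -/
lemma isPcMap_stupidGEι : IsPcMap n (DerivedCategory.Q.map (stupidGEι K n)) := by
  refine isPcMap_of_homologyMap n _ (fun i hi => ?_) ?_
  · let φ := (HomologicalComplex.shortComplexFunctor C (ComplexShape.up ℤ) i).map (stupidGEι K n)
    haveI : Epi φ.τ₁ := by
      change Epi (stupidι K n _)
      haveI := isIso_stupidι K n (i := (ComplexShape.up ℤ).prev i) (by simp; omega)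
      infer_instance
    haveI : IsIso φ.τ₂ := isIso_stupidι K n (i := i) hi.le
    haveI : Mono φ.τ₃ := inferInstanceAs (Mono (stupidι K n _))
    exact ShortComplex.isIso_homologyMap_of_epi_of_isIso_of_mono φ
  · let φ := (HomologicalComplex.shortComplexFunctor C (ComplexShape.up ℤ) n).map (stupidGEι K n)
    haveI : IsIso φ.τ₂ := isIso_stupidι K n (i := n) le_rfl
    haveI : Mono φ.τ₃ := inferInstanceAs (Mono (stupidι K n _))
    haveI : IsIso (ShortComplex.cyclesMap φ) := ShortComplex.isIso_cyclesMap_of_isIso_of_mono φ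
    have hφ : Epi (((stupidGE K n).sc n).homologyπ ≫ ShortComplex.homologyMap φ) := by
      rw [ShortComplex.homologyπ_naturality]
      exact epi_comp _ _
    exact @epi_of_epi _ _ _ _ _ ((stupidGE K n).sc n).homologyπ (ShortComplex.homologyMap φ) hφ

end Stupid

end Groth.Agent.KFlatLib
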